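import Cfsg.Agent.Mrg.Omega.OM.Lev.Low.SetU
import Cfsg.Agent.Mrg.Omega.OM.Lev.Low.TorusK.Inst
import Cfsg.Agent.Mrg.Omega.EK3.Q.Loc
import Cfsg.Agent.Mrg.Omega.OM.Lev.Low.Full
import Cfsg.Agent.Mrg.Omega.OM.Lev.Low.Two
import Cfsg.Agent.Mrg.Omega.TC.UniLev
import Cfsg.Agent.Mrg.Omega.OM.LowT.SetU
import Cfsg.Agent.Mrg.Omega.OM.SWT.CaseLS
import Cfsg.Agent.Mrg.Omega.OM.Lev.Low.LowMain

-- merged: Cfsg.Agent.Mrg.Omega.OM.LowT.LinH
section

section


/-!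
# The hypothesis (LIN) of the port `LowT`

`LinH S P B R j`: for the parabolic `R` over `B` of the stage `j`: one natural block over `𝔽₄`, and the torus line is
in `V_P`. (Over `lev S (n+1)` this was `LinV.lin_V`; over `K₀ = O₂(P)` it comes from the choice of `R` with `|DX S P R|`
maximal, see `CaseLQ/Torus.lean` and `LowT/Lin.lean`.)
-/

set_option autoImplicit false
set_option linter.unusedSectionVars false

namespace Cfsg.Agent.Omega.OM.LowT

open Subgroup Cfsg Cfsg.Agent.ZN.ChoiceBase Cfsg.Agent.ZN.ChoiceSit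
open Cfsg.Agent.ZN (jj zj bau zc zl o2)
open Cfsg.Agent.Omega.FFThm (NatKM)
open Cfsg.Agent.Omega.FrameFF (cv)
open Cfsg.Agent.Omega.OM.Lev.Low

universe u

variable {G : Type u} [Group G] [Finite G]

/-- **(LIN)** -/
structure LinH (S : Sylow 2 G) (P B R : Subgroup G) (j : ℕ) : Prop where
  /-- one block over `𝔽₄` -/
  one : ∀ (F : Type) [Field F] [Finite F] [CharP F 2] (k : ℕ), 0 < k → NatKM F B R (zl B R) (cv B R) k →
    4 ≤ Nat.card F → k = 1 ∧ Nat.card F = 4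
  /-- the torus line is in `V_P` -/
  le : ∀ (K N₁ c : Subgroup G) (τ : G), PB (LevB.BL (S : Subgroup G) j) K (zl B R) N₁ (cv B R) 4 → K ≤ R →
    c ≤ N₁ → τ ∈ K → τ ∈ normalizer (LevB.BL (S : Subgroup G) j : Set G) → cj τ c = c →
    (∀ x ∈ c, τ * x * τ⁻¹ = x → x = 1) → c ≤ zl (S : Subgroup G) P

end Cfsg.Agent.Omega.OM.LowT

end

section


/-!
# LIN (helper388 #25947, #26301): the lines of a block over `B₀` are centralised by `Q`

`M : NatC F T H V D k`, `NB' M B X K c` : the blocks `K i` over `B` with the lines `c i ≤ X`, `|F| > 2`. `Q ≤ T` is normal in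
`T`, `VP = C_X(Q)`, `N_H(T) ≤ N(Q)`, and every minimal parabolic `R ≤ H` over `T` which normalises `B` normalises `Q` or
centralises an element `z ∈ VP ∩ V` all of whose components are nontrivial. Then `Q` centralises the lines.

* `AA M` : the elements acting on `V / D` as elements of `SL₂(F)^k`, and trivially on `D`; `oddGen H ≤ AA M`;
* `cent_lines` : such an element which normalises `X` and centralises `z` centralises `X ∩ V`;
* `norm_F` : `N_H(B)` normalises `VP ∩ V`;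
* **`cent_c`**.
-/

set_option autoImplicit false
set_option linter.unusedSectionVars false

namespace Cfsg.Agent.Omega.OM.LowT.LinCore

open Subgroup Cfsg Cfsg.Agent.ZN Cfsg.Agent.ZN.ChoiceBase Cfsg.Agent.ZN.ChoiceSit
open Cfsg.Agent.Omega.NatPair (ap ap_zero' ap_one' ap_one ap_mul ext2 ap_inv_ap ap_inj)
open Cfsg.Agent.Lib.SL2Mat
open Cfsg.Agent.MinSimple.MinParabolic (IsMinPar)
open Cfsg.Agent.MinSimple.VModule (oddGen oddGen_le oddGen_le_of_sup)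
open Cfsg.Agent.Omega.SQ1.FFOne (MinH)
open Cfsg.Agent.Omega.NO3S.OneLine (NatC)
open Cfsg.Agent.Omega.NO3S.OneLine.NatC (acts_mul acts_inv acts_one acts_unique)
open Cfsg.Agent.Omega.OM.Lev.Nat (Wn mem_Wn)
open Cfsg.Agent.Omega.OM.GNat (cent_N)
open Cfsg.Agent.Omega.OM.Lev.Low

universe u

variable {G : Type u} [Group G] [Finite G] {F : Type} [Field F] {T H V D : Subgroup G} {k : ℕ}

/-- the elements acting on `V / D` as elements of `SL₂(F)^k`, and trivially on `D` -/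
def AA (M : NatC F T H V D k) : Subgroup G where
  carrier := {x | x ∈ H ∧ (∃ A, M.Acts x A) ∧ ∀ d ∈ D, x * d = d * x}
  mul_mem' := by
    rintro a b ⟨ha, ⟨A, hA⟩, ha2⟩ ⟨hb, ⟨B, hB⟩, hb2⟩
    refine ⟨mul_mem ha hb, ⟨A * B, acts_mul hb hA hB⟩, fun d hd => ?_⟩
    have e1 : Commute a d := ha2 d hd
    have e2 : Commute b d := hb2 d hd
    exact (e1.mul_left e2).eq
  one_mem' := ⟨one_mem H, ⟨1, acts_one⟩, fun d _ => by simp⟩
  inv_mem' := by
    rintro a ⟨ha, ⟨A, hA⟩, ha2⟩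
    refine ⟨inv_mem ha, ⟨A⁻¹, acts_inv ha hA⟩, fun d hd => ?_⟩
    have e1 : Commute a d := ha2 d hd
    exact e1.inv_left.eq

variable {M : NatC F T H V D k}

theorem mem_AA {x : G} : x ∈ AA M ↔ x ∈ H ∧ (∃ A, M.Acts x A) ∧ ∀ d ∈ D, x * d = d * x := Iff.rfl

theorem norm_AA : H ≤ normalizer (AA M : Set G) := by
  have key : ∀ g ∈ H, ∀ x ∈ AA M, g * x * g⁻¹ ∈ AA M := by
    rintro g hg x ⟨hx, ⟨A, hA⟩, hx2⟩
    obtain ⟨B, hB⟩ := M.nat.norm g hg x hx A hA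
    refine ⟨mul_mem (mul_mem hg hx) (inv_mem hg), ⟨B, hB⟩, fun d hd => ?_⟩
    have hd' : g⁻¹ * d * g ∈ D := by
      have := M.Dn g⁻¹ (inv_mem hg) d hd
      rwa [inv_inv] at this
    have h1 := hx2 _ hd'
    calc g * x * g⁻¹ * d = g * (x * (g⁻¹ * d * g)) * g⁻¹ := by group
      _ = g * (g⁻¹ * d * g * x) * g⁻¹ := by rw [h1]
      _ = d * (g * x * g⁻¹) := by group
  intro g hg
  rw [mem_normalizer_iff]
  refine fun x => ⟨key g hg x, fun hx => ?_⟩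
  have := key g⁻¹ (inv_mem hg) _ hx
  have e : g⁻¹ * (g * x * g⁻¹) * g⁻¹⁻¹ = x := by group
  rwa [e] at this

/-- **The elements of odd order act as elements of `SL₂(F)^k`.** -/
theorem oddGen_le_AA (hT : Syl T H) : oddGen H ≤ AA M :=
  oddGen_le_of_sup norm_AA
    (M.nat.gen _ le_sup_right fun _ hh A hA => mem_sup_left ⟨hh, ⟨A, hA.1⟩, hA.2⟩) hT.1 (fun _ hx => hx.1) hT.2.1

/-- the elements of `V` on the lines are products of elements of the lines -/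
theorem mem_iSup_Li {v : G} (hv : v ∈ V) (h0 : ∀ i, M.nat.e v i 1 = 0) : v ∈ ⨆ i, Li M i := by
  classical
  have key : ∀ s : Finset (Fin k), ∀ v ∈ V, (∀ i, M.nat.e v i 1 = 0) → (∀ i ∉ s, M.nat.e v i = 0) →
      v ∈ ⨆ i, Li M i := by
    intro s
    induction s using Finset.induction_on with
    | empty =>
      intro v hv _ h1
      have h2 : v ∈ D := (M.nat.ker v hv).1 (funext fun i => h1 i (Finset.notMem_empty i))
      exact le_iSup (fun i => Li M i) ⟨0, M.pos⟩ (D_le_Li ⟨0, M.pos⟩ h2)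
    | insert i s hi ih =>
      intro v hv h0 h1
      obtain ⟨w, hw, e⟩ := exists_line M i (M.nat.e v i 0)
      have hvw : v * w⁻¹ ∈ V := mul_mem hv (inv_mem hw.1)
      have h2 := ih (v * w⁻¹) hvw (fun j => ?_) fun j hj => ?_
      · have h3 := mul_mem h2 (le_iSup (fun i => Li M i) i hw)
        rwa [inv_mul_cancel_right] at h3
      · rw [M.map_div hv hw.1, Pi.sub_apply, Pi.sub_apply, h0 j]
        by_cases hji : j = i
        · subst hji
          rw [hw.2.2, sub_zero]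
        · rw [hw.2.1 j hji, Pi.zero_apply, sub_zero]
      · rw [M.map_div hv hw.1, Pi.sub_apply]
        by_cases hji : j = i
        · subst hji
          rw [sub_eq_zero]
          exact ext2 e.symm (by rw [h0, hw.2.2])
        · rw [h1 j (fun h => (Finset.mem_insert.1 h).elim hji hj), hw.2.1 j hji, sub_zero]
  exact key Finset.univ v hv h0 fun i hi => absurd (Finset.mem_univ i) hi

variable {B X : Subgroup G} {K c : Fin k → Subgroup G}

/-- **An element of `AA M` which normalises `X` and centralises `z` centralises `X ∩ V`.** -/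
theorem cent_lines [CharP F 2] (hnb : NB' M B X K c) {z : G} (hzV : z ∈ V) (hzX : z ∈ X)
    (hzi : ∀ i, M.nat.e z i ≠ 0) {x : G} (hx : x ∈ AA M) (hxX : x ∈ normalizer (X : Set G)) (hxz : x * z = z * x)
    {v : G} (hv : v ∈ V) (hvX : v ∈ X) : x * v = v * x := by
  obtain ⟨hxH, ⟨A, hA⟩, hxD⟩ := hx
  have hk := M.pos
  have key : ∀ i, ∀ w ∈ Li M i, x * w = w * x := by
    intro i w hw
    have hL := hnb.ld i
    have h10 : ent (A i) 1 0 = 0 := by
      obtain ⟨y, hy, e⟩ := exists_line M i 1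
      have h1 : x * y * x⁻¹ ∈ X := (mem_normalizer_iff.1 hxX y).1 (hL.LiZ i hy)
      have h2 := (hL.mem _ (M.Vn x hxH y hy.1)).1 h1 i
      rw [hA y hy.1 i, ap_one', e, hy.2.2] at h2
      simpa using h2
    have hz1 : M.nat.e z i 1 = 0 := (hL.mem z hzV).1 hzX i
    have hz0 : M.nat.e z i 0 ≠ 0 := fun h0 => hzi i (ext2 h0 hz1)
    have h00 : ent (A i) 0 0 = 1 := by
      have h2 := hA z hzV i
      rw [hxz, mul_inv_cancel_right] at h2
      have h3 := congrFun h2 0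
      rw [ap_zero', hz1, mul_zero, add_zero] at h3
      have h4 : (ent (A i) 0 0 - 1) * M.nat.e z i 0 = 0 := by
        rw [sub_mul, one_mul, ← h3, sub_self]
      rcases mul_eq_zero.1 h4 with h5 | h5
      · exact sub_eq_zero.1 h5
      · exact absurd h5 hz0
    have h11 : ent (A i) 1 1 = 1 := by
      have h2 := det_eq (A i)
      rw [h10, mul_zero, sub_zero, h00, one_mul] at h2
      exact h2
    have hup : A i = up (ent (A i) 0 1) := ext_ent (by rw [up_00, h00]) (by rw [up_01]) (by rw [up_10, h10])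
      (by rw [up_11, h11])
    obtain ⟨b, hb, hbA⟩ := hL.root_i i (ent (A i) 0 1)
    have h3 := acts_mul (M := M) hxH (acts_inv (M := M) hbA.1 hbA.2.1) hA
    have h4 := cent_N M hL.hm (mul_mem (inv_mem hbA.1) hxH) h3 (fun d hd => by
      have c1 : Commute b d := hbA.2.2 d hd
      have c2 : Commute x d := hxD d hd
      exact (c1.inv_left.mul_left c2).eq) (i := i) (by
        rw [Pi.mul_apply, Pi.inv_apply, Pi.mulSingle_eq_same, ← hup, inv_mul_cancel]) hw.1 hw.2.1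
    have h5 : b * w = w * b := hL.cB b hb w (hL.LiZ i hw)
    calc x * w = b * (b⁻¹ * x * w) := by group
      _ = b * (w * (b⁻¹ * x)) := by rw [h4]
      _ = (b * w) * b⁻¹ * x := by group
      _ = w * x := by rw [h5]; group
  have h1 := mem_iSup_Li hv ((hnb.ld ⟨0, hk⟩).mem v hv |>.1 hvX)
  have h2 : (⨆ i, Li M i) ≤ centralizer ({x} : Set G) := iSup_le fun i w hw => by
    rw [mem_centralizer_singleton_iff]
    exact (key i w hw).symm
  exact (mem_centralizer_singleton_iff.1 (h2 h1)).symm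

/-- The hypotheses. -/
structure Hyp (M : NatC F T H V D k) (B X : Subgroup G) (K c : Fin k → Subgroup G) (Q VP : Subgroup G) (z : G) :
    Prop where
  nb : NB' M B X K c
  /-- `N(B) ≤ N(X)` -/
  BX : normalizer (B : Set G) ≤ normalizer (X : Set G)
  QT : Q ≤ T
  TQ : T ≤ normalizer (Q : Set G)
  mem : ∀ x, x ∈ VP ↔ x ∈ X ∧ ∀ q ∈ Q, q * x = x * q
  NT : H ⊓ normalizer (T : Set G) ≤ normalizer (Q : Set G)
  NQ : H ⊓ normalizer (Q : Set G) ≤ normalizer (VP : Set G)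
  zV : z ∈ V
  zP : z ∈ VP
  zi : ∀ i, M.nat.e z i ≠ 0
  par : ∀ R : Subgroup G, IsMinPar T R → R ≤ H → R ≤ normalizer (B : Set G) →
    R ≤ normalizer (Q : Set G) ∨ ∀ x ∈ R, x * z = z * x

namespace Hyp

variable {Q VP : Subgroup G} {z : G} (h : Hyp M B X K c Q VP z)
include h

theorem syl : Syl T H := (h.nb.ld ⟨0, M.pos⟩).hm.syl

theorem VnH : H ≤ normalizer (V : Set G) := by
  intro g hg
  rw [mem_normalizer_iff]
  refine fun x => ⟨M.Vn g hg x, fun hx => ?_⟩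
  have := M.Vn g⁻¹ (inv_mem hg) _ hx
  have e : g⁻¹ * (g * x * g⁻¹) * g⁻¹⁻¹ = x := by group
  rwa [e] at this

/-- **`N_H(B)` normalises `VP ∩ V`.** -/
theorem norm_F [CharP F 2] : H ⊓ normalizer (B : Set G) ≤ normalizer ((VP ⊓ V : Subgroup G) : Set G) := by
  have hL := h.nb.ld ⟨0, M.pos⟩
  have hNQ : H ⊓ normalizer (Q : Set G) ≤ normalizer ((VP ⊓ V : Subgroup G) : Set G) := by
    intro g hg
    rw [mem_normalizer_iff_cj, cj_inf, cj_eq_of_mem_normalizer (h.NQ hg),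
      cj_eq_of_mem_normalizer (h.VnH (mem_inf.1 hg).1)]
  have hTB : T ≤ H ⊓ normalizer (B : Set G) := le_inf h.syl.1 hL.TB
  refine MinSimple.MinParabolic.le_of_forall hTB (fun g hg => ?_) fun R hR hRle => ?_
  · obtain ⟨⟨hgH, -⟩, hgT⟩ := hg
    exact hNQ ⟨hgH, h.NT ⟨hgH, hgT⟩⟩
  · have hRH := hRle.trans inf_le_left
    have hRB := hRle.trans inf_le_right
    rcases h.par R hR hRH hRB with h1 | h1
    · exact (le_inf hRH h1).trans hNQ
    · have hsyl : Syl T R := ⟨hR.le, h.syl.2.1, fun Q' hQ' h2 hle => h.syl.2.2 Q' (hQ'.trans hRH) h2 hle⟩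
      rw [← Dich.oddGen_sup_syl hsyl]
      refine sup_le (fun x hx => ?_) ((le_inf h.syl.1 h.TQ).trans hNQ)
      have hxR := oddGen_le R hx
      have hxA : x ∈ AA M := oddGen_le_AA h.syl (MinSimple.VModule.oddGen_mono hRH hx)
      have hxX := h.BX (hRB hxR)
      have hxz := h1 x hxR
      have hcen : ∀ v ∈ VP ⊓ V, x * v = v * x := fun v hv =>
        cent_lines h.nb h.zV ((h.mem z).1 h.zP).1 h.zi hxA hxX hxz hv.2 ((h.mem v).1 hv.1).1
      exact centralizer_le_normalizer _ (mem_centralizer_iff.2 fun v hv => (hcen v hv).symm)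

/-- **The lines are centralised by `Q`.** -/
theorem cent_c [Finite F] [CharP F 2] (hF : 2 < Nat.card F) (i : Fin k) : ∀ q ∈ Q, ∀ x ∈ c i, q * x = x * q := by
  have hL := h.nb.ld i
  have hpb := h.nb.pb i
  have hN1 : ∀ v, v ∈ Wn M i ⊓ X ↔ v ∈ Li M i := by
    intro v
    constructor
    · rintro ⟨hv, hvX⟩
      exact ⟨hv.1, hv.2, (hL.mem v hv.1).1 hvX i⟩
    · intro hv
      exact ⟨⟨hv.1, hv.2.1⟩, hL.LiZ i hv⟩
  have htor : ∀ a ∈ Li M i, a ∉ D → ∀ b ∈ Li M i, b ∉ D →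
      ∃ τ ∈ K i, τ ∈ normalizer (B : Set G) ∧ τ * a * τ⁻¹ * b⁻¹ ∈ D := fun a ha haD b hb hbD =>
    hpb.tor a ((hN1 a).2 ha) haD b ((hN1 b).2 hb) hbD
  have hQc : ∀ v ∈ VP ⊓ V, ∀ q ∈ Q, q * v = v * q := fun v hv => ((h.mem v).1 hv.1).2
  have hτF : ∀ τ ∈ K i, τ ∈ normalizer (B : Set G) → ∀ v ∈ VP ⊓ V, τ * v * τ⁻¹ ∈ VP ⊓ V := fun τ hτ hτB v hv =>
    (mem_normalizer_iff.1 (h.norm_F ⟨hL.LH hτ, hτB⟩) v).1 hv
  -- the component of `z`
  have hz1 : ∀ j, M.nat.e z j 1 = 0 := (hL.mem z h.zV).1 ((h.mem z).1 h.zP).1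
  obtain ⟨y, hy, ey⟩ := exists_line M i (M.nat.e z i 0)
  have hyD : y ∉ D := by
    intro hyD
    rw [D_e (M := M) hyD] at ey
    exact h.zi i (ext2 ey.symm (hz1 i))
  obtain ⟨a, ha0, ha1⟩ : ∃ a : F, a ≠ 0 ∧ a ≠ M.nat.e z i 0 := by
    by_contra hcon
    push Not at hcon
    have h1 : (Set.univ : Set F) ⊆ {0, M.nat.e z i 0} := by
      intro x _
      by_cases hx : x = 0
      · exact Or.inl hx
      · exact Or.inr (hcon x hx)
    have h2 := Set.ncard_le_ncard h1 (Set.toFinite _)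
    rw [Set.ncard_univ] at h2
    have h4 := Set.ncard_insert_le (0 : F) {M.nat.e z i 0}
    rw [Set.ncard_singleton] at h4
    omega
  obtain ⟨w, hw, ew⟩ := exists_line M i a
  have hwD : w ∉ D := by
    intro hwD
    rw [D_e (M := M) hwD] at ew
    exact ha0 ew.symm
  obtain ⟨τ, hτ, hτB, hτD⟩ := htor y hy hyD w hw hwD
  have hzF : z ∈ VP ⊓ V := ⟨h.zP, h.zV⟩
  have hτH := hL.LH hτ
  -- `x = [z, τ]` is in the `i`-th line
  set x := τ * z * τ⁻¹ * z⁻¹ with hx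
  have hxF : x ∈ VP ⊓ V := mul_mem (hτF τ hτ hτB z hzF) (inv_mem hzF)
  have hzy : z * y⁻¹ ∈ ⨆ j, Li M j := by
    refine mem_iSup_Li (mul_mem h.zV (inv_mem hy.1)) fun j => ?_
    rw [M.map_div h.zV hy.1, Pi.sub_apply, Pi.sub_apply, hz1 j]
    by_cases hji : j = i
    · subst hji; rw [hy.2.2, sub_zero]
    · rw [hy.2.1 j hji, Pi.zero_apply, sub_zero]
  have hzyi : M.nat.e (z * y⁻¹) i = 0 := by
    rw [M.map_div h.zV hy.1, Pi.sub_apply, sub_eq_zero]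
    exact ext2 ey.symm (by rw [hz1, hy.2.2])
  -- `τ` centralises `z y⁻¹`
  have hcen : ∀ v ∈ V, (∀ j, M.nat.e v j 1 = 0) → M.nat.e v i = 0 → τ * v = v * τ := by
    classical
    have key : ∀ s : Finset (Fin k), ∀ v ∈ V, (∀ j, M.nat.e v j 1 = 0) → M.nat.e v i = 0 →
        (∀ j ∉ s, M.nat.e v j = 0) → τ * v = v * τ := by
      intro s
      induction s using Finset.induction_on with
      | empty =>
        intro v hv _ _ h1
        have h2 : v ∈ D := (M.nat.ker v hv).1 (funext fun j => h1 j (Finset.notMem_empty j))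
        exact hL.cD τ hτ v h2
      | insert m s hm ih =>
        intro v hv h0 hi0 h1
        by_cases hmi : m = i
        · refine ih v hv h0 hi0 fun j hj => ?_
          by_cases hji : j = i
          · rw [hji]; exact hi0
          · exact h1 j fun h => (Finset.mem_insert.1 h).elim (fun e => hji (e.trans hmi)) hj
        · obtain ⟨u, hu, eu⟩ := exists_line M m (M.nat.e v m 0)
          have hvu : v * u⁻¹ ∈ V := mul_mem hv (inv_mem hu.1)
          have h2 := ih (v * u⁻¹) hvu (fun j => ?_) ?_ fun j hj => ?_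
          · have h3 := hL.LW τ hτ m hmi u hu
            have c1 : Commute τ (v * u⁻¹) := h2
            have c2 : Commute τ u := h3
            have c3 := c1.mul_right c2
            rw [inv_mul_cancel_right] at c3
            exact c3.eq
          · rw [M.map_div hv hu.1, Pi.sub_apply, Pi.sub_apply, h0 j]
            by_cases hjm : j = m
            · subst hjm; rw [hu.2.2, sub_zero]
            · rw [hu.2.1 j hjm, Pi.zero_apply, sub_zero]
          · rw [M.map_div hv hu.1, Pi.sub_apply, hi0, hu.2.1 i (Ne.symm hmi), sub_zero]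
          · rw [M.map_div hv hu.1, Pi.sub_apply]
            by_cases hjm : j = m
            · subst hjm
              rw [sub_eq_zero]
              exact ext2 eu.symm (by rw [h0, hu.2.2])
            · rw [h1 j (fun h => (Finset.mem_insert.1 h).elim hjm hj), hu.2.1 j hjm, sub_zero]
    intro v hv h0 hi0
    exact key Finset.univ v hv h0 hi0 fun j hj => absurd (Finset.mem_univ j) hj
  have hzy1 : τ * (z * y⁻¹) = z * y⁻¹ * τ := hcen _ (mul_mem h.zV (inv_mem hy.1)) (fun j => by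
    rw [M.map_div h.zV hy.1, Pi.sub_apply, Pi.sub_apply, hz1 j]
    by_cases hji : j = i
    · subst hji; rw [hy.2.2, sub_zero]
    · rw [hy.2.1 j hji, Pi.zero_apply, sub_zero]) hzyi
  have hτy : τ * y * τ⁻¹ ∈ V := M.Vn τ hτH y hy.1
  have hxe : x = τ * y * τ⁻¹ * y⁻¹ := by
    have h1 : z * y⁻¹ * (y * z⁻¹) = 1 := by group
    calc x = (τ * (z * y⁻¹)) * y * τ⁻¹ * z⁻¹ := by rw [hx]; group
      _ = (z * y⁻¹) * (τ * y * τ⁻¹ * z⁻¹) := by rw [hzy1]; group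
      _ = (z * y⁻¹) * (τ * y * τ⁻¹ * y⁻¹ * (y * z⁻¹)) := by group
      _ = (z * y⁻¹) * ((y * z⁻¹) * (τ * y * τ⁻¹ * y⁻¹)) := by
        rw [M.Vcomm (mul_mem hτy (inv_mem hy.1)) (mul_mem hy.1 (inv_mem h.zV))]
      _ = τ * y * τ⁻¹ * y⁻¹ := by rw [← mul_assoc, h1, one_mul]
  have hxV : x ∈ V := hxF.2
  -- coordinates of `x`
  have hτe : M.nat.e (τ * y * τ⁻¹) = M.nat.e w := by
    have h1 := D_e (M := M) hτD
    rwa [M.map_div hτy hw.1, sub_eq_zero] at h1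
  have hxLi : x ∈ Li M i := by
    refine ⟨hxV, fun j hj => ?_, ?_⟩
    · rw [hxe, M.map_div hτy hy.1, hτe, Pi.sub_apply, hw.2.1 j hj, hy.2.1 j hj, sub_zero]
    · rw [hxe, M.map_div hτy hy.1, hτe, Pi.sub_apply, Pi.sub_apply, hw.2.2, hy.2.2, sub_zero]
  have hxD : x ∉ D := by
    intro hxD
    have h1 := D_e (M := M) hxD
    rw [hxe, M.map_div hτy hy.1, hτe, sub_eq_zero] at h1
    apply ha1
    rw [← ew, h1, ey]
  -- `Q` fixes `i`
  have hQi : ∀ q ∈ Q, MvI M q i i := by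
    intro q hq
    have hqT := h.QT hq
    have hqH := hL.TH hqT
    obtain ⟨m, hm⟩ := MvI.ex M hqH i
    by_cases hmi : m = i
    · rwa [hmi] at hm
    · exfalso
      apply hxD
      have h1 := hm.Li hL.TH hqT hxLi
      rw [hQc x hxF q hq, mul_inv_cancel_right] at h1
      exact Li_D hxLi (by rw [h1.2.1 i (Ne.symm hmi)]; rfl)
  -- every element of the line is in `(VP ∩ V) D`
  intro q hq v hv
  have hqT := h.QT hq
  have hvLi := h.nb.co.le i hv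
  by_cases hvD : v ∈ D
  · rw [h.nb.co.dis i v hv hvD, mul_one, one_mul]
  · obtain ⟨σ, hσ, hσB, hσD⟩ := htor x hxLi hxD v hvLi hvD
    have hf : σ * x * σ⁻¹ ∈ VP ⊓ V := hτF σ hσ hσB x hxF
    set f := σ * x * σ⁻¹ with hf'
    have hqf := hQc f hf q hq
    have hd : f * v⁻¹ ∈ D := hσD
    have hqd := M.Dn q (hL.TH hqT) _ hd
    have h1 : q * v * q⁻¹ * v⁻¹ ∈ D := by
      have e : q * v * q⁻¹ * v⁻¹ = (q * (f * v⁻¹) * q⁻¹)⁻¹ * (f * v⁻¹) := by
        calc q * v * q⁻¹ * v⁻¹ = q * v * q⁻¹ * f⁻¹ * (f * v⁻¹) := by group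
          _ = q * v * (f⁻¹ * q⁻¹) * (f * v⁻¹) := by
            have h2 : q⁻¹ * f⁻¹ = f⁻¹ * q⁻¹ := by
              rw [← mul_inv_rev, ← mul_inv_rev, hqf]
            rw [mul_assoc (q * v), h2]
          _ = _ := by group
      rw [e]
      exact mul_mem (inv_mem hqd) hd
    have h2 : q * v * q⁻¹ ∈ c i := by
      rw [← h.nb.co.conj q hqT i i (hQi q hq)]
      exact ⟨v, hv, rfl⟩
    have h3 := h.nb.co.dis i _ (mul_mem h2 (inv_mem hv)) h1
    exact mul_inv_eq_iff_eq_mul.1 (mul_inv_eq_one.1 h3)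

/-- `c i ≤ VP` -/
theorem c_le [Finite F] [CharP F 2] (hF : 2 < Nat.card F) (i : Fin k) : c i ≤ VP := fun x hx =>
  (h.mem x).2 ⟨(h.nb.ld i).LiZ i (h.nb.co.le i hx), fun q hq => h.cent_c hF i q hq x hx⟩

end Hyp

end Cfsg.Agent.Omega.OM.LowT.LinCore

end

end

-- merged: Cfsg.Agent.Mrg.Omega.OM.Lev.Low.TorusK.LocFam
section

section


/-!
# TORUS, `k ≥ 4`: (LOC) of helper607 #23961 for a family of blocks

One block `K i` over every line `W i`, `F i = [N i, K i]`: `X ∏ F i` is abelian, contained in `B₀`, and normalised by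
all `K i`.
-/

set_option autoImplicit false
set_option linter.unusedSectionVars false

namespace Cfsg.Agent.Omega.OM.Lev.Low.TorusK

open Subgroup Cfsg Cfsg.Agent.ZN Cfsg.Agent.ZN.ChoiceBase
open Cfsg.Agent.Omega.SQ1.Bau (mem_sup_comm card_sup_comm elem_comm elem_sq)
open Cfsg.Agent.Omega.OM.Lev.Uni (FrL)
open Cfsg.Agent.Omega.OM.Lev.Low.TorusK.PBC
open scoped commutatorElement

universe u

variable {G : Type u} [Group G] {ι : Type} {S B Q V Xn ZJ B0 X M0 Y0 : Subgroup G} {L W Z C A : ι → Subgroup G} {z : G}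
  {K N N1 N0 : ι → Subgroup G}

namespace Loc

/-- `F i`, `F j` commute -/
theorem fam_comm [Finite G] (h : TK S B Q V Xn ZJ B0 X M0 Y0 L W Z C A z)
    (bk : ∀ i, BK B B0 X M0 Y0 W i (K i) (N i) (N1 i) (N0 i)) (i j : ι) {u v : G} (hu : u ∈ (⁅N i, K i⁆ : Subgroup G))
    (hv : v ∈ (⁅N j, K j⁆ : Subgroup G)) : u * v = v * u := comm_all h (bk i) (bk j) hu hv

theorem fam_le_B0 [Finite G] (h : TK S B Q V Xn ZJ B0 X M0 Y0 L W Z C A z)
    (bk : ∀ i, BK B B0 X M0 Y0 W i (K i) (N i) (N1 i) (N0 i)) : X ⊔ ⨆ i, (⁅N i, K i⁆ : Subgroup G) ≤ B0 :=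
  sup_le h.XB0 (iSup_le fun i => (bk i).VB0)

theorem fam_comm' [Finite G] (h : TK S B Q V Xn ZJ B0 X M0 Y0 L W Z C A z)
    (bk : ∀ i, BK B B0 X M0 Y0 W i (K i) (N i) (N1 i) (N0 i)) {a b : G}
    (ha : a ∈ X ⊔ ⨆ i, (⁅N i, K i⁆ : Subgroup G)) (hb : b ∈ X ⊔ ⨆ i, (⁅N i, K i⁆ : Subgroup G)) : a * b = b * a := by
  have key : ∀ x, (∀ y ∈ X, y * x = x * y) → (∀ i, ∀ y ∈ (⁅N i, K i⁆ : Subgroup G), y * x = x * y) →
      ∀ y ∈ X ⊔ ⨆ i, (⁅N i, K i⁆ : Subgroup G), y * x = x * y := by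
    intro x h1 h2 y hy
    have h3 : X ⊔ ⨆ i, (⁅N i, K i⁆ : Subgroup G) ≤ centralizer ({x} : Set G) :=
      sup_le (fun y hy => mem_centralizer_singleton_iff.2 (h1 y hy))
        (iSup_le fun i y hy => mem_centralizer_singleton_iff.2 (h2 i y hy))
    exact mem_centralizer_singleton_iff.1 (h3 hy)
  refine key b (fun x hx => (key x ?_ ?_ b hb).symm) (fun i x hx => (key x ?_ ?_ b hb).symm) a ha
  · exact fun y hy => h.Xc hy hx
  · exact fun i y hy => h.cX ((bk i).VB0 hy) hx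
  · exact fun y hy => (h.cX ((bk i).VB0 hx) hy).symm
  · exact fun j y hy => comm_all h (bk j) (bk i) hy hx

/-- **(LOC)** : all `K i` normalise `X ∏ F j`. -/
theorem fam_norm [Finite G] [Finite ι] (h : TK S B Q V Xn ZJ B0 X M0 Y0 L W Z C A z)
    (bk : ∀ i, BK B B0 X M0 Y0 W i (K i) (N i) (N1 i) (N0 i)) (i : ι) :
    K i ≤ normalizer ((X ⊔ ⨆ j, ⁅N j, K j⁆ : Subgroup G) : Set G) := by
  have hF : ∀ j, (⁅N j, K j⁆ : Subgroup G) ≤ X ⊔ ⨆ j, ⁅N j, K j⁆ := fun j =>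
    (le_iSup (fun j => (⁅N j, K j⁆ : Subgroup G)) j).trans le_sup_right
  have key : ∀ g ∈ K i, cj g (X ⊔ ⨆ j, ⁅N j, K j⁆) ≤ X ⊔ ⨆ j, ⁅N j, K j⁆ := by
    intro g hg
    rw [cj_le_iff]
    have hcj : ∀ y : G, y ∈ cj g⁻¹ (X ⊔ ⨆ j, ⁅N j, K j⁆) ↔ g * y * g⁻¹ ∈ X ⊔ ⨆ j, ⁅N j, K j⁆ := fun y => by
      rw [mem_cj', inv_inv]
    refine sup_le (fun x hx => (hcj x).2 ?_) (iSup_le fun j v hv => (hcj v).2 ?_)
    · have h1 := mul_mem (hF i ((bk i).act h hg hx)) (mem_sup_left hx : x ∈ X ⊔ ⨆ j, ⁅N j, K j⁆)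
      rwa [inv_mul_cancel_right] at h1
    · by_cases e : i = j
      · subst e
        exact hF i ((mem_normalizer_iff.1 ((bk i).pb.LV hg) v).1 hv)
      · have h1 := pair_norm h e (bk i) (bk j) ((bk j).inf_X h).le hg hv
        have h2 : ⁅N i, K i⁆ ⊔ ⁅N j, K j⁆ ⊔ X ≤ X ⊔ ⨆ j, ⁅N j, K j⁆ := sup_le (sup_le (hF i) (hF j)) le_sup_left
        exact h2 h1
  intro g hg
  rw [mem_normalizer_iff_cj]
  refine le_antisymm (key g hg) ?_
  have h1 := cj_mono g (key g⁻¹ (inv_mem hg))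
  rwa [cj_cj, mul_inv_cancel, cj_one] at h1

/-- `S` normalises `X ∏ F j` if it permutes the `F j` -/
theorem fam_S [Finite G] (h : TK S B Q V Xn ZJ B0 X M0 Y0 L W Z C A z)
    (hp : ∀ s ∈ S, ∀ i, ∃ j, cj s ⁅N i, K i⁆ = ⁅N j, K j⁆) :
    S ≤ normalizer ((X ⊔ ⨆ j, ⁅N j, K j⁆ : Subgroup G) : Set G) := by
  have key : ∀ g ∈ S, cj g (X ⊔ ⨆ j, ⁅N j, K j⁆) ≤ X ⊔ ⨆ j, ⁅N j, K j⁆ := by
    intro g hg
    rw [show cj g (X ⊔ ⨆ j, ⁅N j, K j⁆) = (X ⊔ ⨆ j, ⁅N j, K j⁆).map (MulAut.conj g).toMonoidHom from rfl,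
      Subgroup.map_sup, Subgroup.map_iSup]
    refine sup_le ?_ (iSup_le fun i => ?_)
    · have e : X.map (MulAut.conj g).toMonoidHom = X := cj_eq_of_mem_normalizer (h.SX hg)
      rw [e]
      exact le_sup_left
    · obtain ⟨j, hj⟩ := hp g hg i
      have e : (⁅N i, K i⁆ : Subgroup G).map (MulAut.conj g).toMonoidHom = ⁅N j, K j⁆ := hj
      rw [e]
      exact (le_iSup (fun j => (⁅N j, K j⁆ : Subgroup G)) j).trans le_sup_right
  intro g hg
  rw [mem_normalizer_iff_cj]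
  refine le_antisymm (key g hg) ?_
  have h1 := cj_mono g (key g⁻¹ (inv_mem hg))
  rwa [cj_cj, mul_inv_cancel, cj_one] at h1

end Loc

end Cfsg.Agent.Omega.OM.Lev.Low.TorusK

end

section


/-!
# TORUS, `k ≥ 3` (helper607 #23961): the last page over `TK` and `Fam`

* `Fam.false_of` : a frame `TK`, a family `Fam` and (theta) are a contradiction.
-/

set_option autoImplicit false
set_option linter.unusedSectionVars false
set_option linter.unusedVariables false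

namespace Cfsg.Agent.Omega.OM.Lev.Low.TorusK.EndFam

open Subgroup Cfsg Cfsg.Agent.ZN Cfsg.Agent.ZN.ChoiceBase
open Cfsg.Agent.Omega.OM.Lev.Low

universe u

variable {G : Type u} [Group G]

variable {ι : Type} {S B Q V Xn ZJ B0 X M0 Y0 : Subgroup G} {L W Z C A : ι → Subgroup G} {z : G}

/-- **The last page.** -/
theorem false_of [Finite G] [Finite ι] [Nonempty ι] (h : TK S B Q V Xn ZJ B0 X M0 Y0 L W Z C A z)
    {K N N1 N0 : ι → Subgroup G} (f : Fam S B B0 X M0 Y0 W K N N1 N0)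
    (theta : ∀ m, ∃ R ≤ K m, K m ≤ normalizer (R : Set G) ∧ K m ≤ R ⊔ B0 ∧
      ∀ l, l ≠ m → R ≤ centralizer ((⁅N l, K l⁆ : Subgroup G) : Set G)) : False := by
  obtain ⟨i0⟩ := (inferInstance : Nonempty ι)
  refine EndTK.false_BL h (i0 := i0) f.bk (fun m => (f.bk m).n4 h) (fun m => (f.bk m).inf_X h) f.chi ?_ theta
    ((f.na i0).lines h (f.bk i0))
  intro m
  obtain ⟨s, hs, e, e'⟩ := f.conj i0 m
  exact ⟨s, hs, e', e⟩

/-- **One block.** -/
theorem false_one [Finite G] [Finite ι] (h : TK S B Q V Xn ZJ B0 X M0 Y0 L W Z C A z) {l : ι}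
    {K N N1 N0 : Subgroup G} (k : BK B B0 X M0 Y0 W l K N N1 N0) (a : NA B K N)
    (theta : ∀ K N N1 N0 : ι → Subgroup G, Fam S B B0 X M0 Y0 W K N N1 N0 → ∀ m,
      ∃ R ≤ K m, K m ≤ normalizer (R : Set G) ∧ K m ≤ R ⊔ B0 ∧
        ∀ l, l ≠ m → R ≤ centralizer ((⁅N l, K l⁆ : Subgroup G) : Set G)) : False := by
  have : Nonempty ι := ⟨l⟩
  obtain ⟨K, N, N1, N0, f⟩ := exists_fam h k a
  exact false_of h f (theta K N N1 N0 f)

end Cfsg.Agent.Omega.OM.Lev.Low.TorusK.EndFam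

end

end

-- merged: Cfsg.Agent.Mrg.Omega.OM.Lev.Low.TorusK.LocIn
section

section


/-!
# TORUS, `q = 2`, `k ≥ 2`: the local inputs of the frame of helper607 #23961 from `Ln` + `Bg`

* `syl` : `B` is a Sylow 2-subgroup of `C_G(Z p : p ≠ l)`;
* `loc1`, `loc2` : `E = Ω₁Z(O₂(C_G(Z p : p ≠ l, m)))` is elementary abelian, `Z_J ≤ E ≤ B`, normalised by this centraliser;
* `exists_z` : `Ω₁Z(S) = {1, z}`, `z ∈ Z_J` of full support;
* `fact` : a local `H ≥ S` is generated by `N_H(Ω₁Z(lev S j))` and `C_H(z)`.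
-/

set_option autoImplicit false
set_option linter.unusedSectionVars false

namespace Cfsg.Agent.Omega.OM.Lev.Low.TorusK.LocIn

open Subgroup Cfsg Cfsg.Agent.ZN.ChoiceBase Cfsg.Agent.ZN.ChoiceSit
open Cfsg.Agent.ZN (jj zj bau zc zl o2)
open Cfsg.Agent.Omega.MinPar (IsLoc IsPar IsParS)
open Cfsg.Agent.Omega.OM.Lev.Uni (FrL)
open Cfsg.Agent.Omega.OM.SwapL (Ln ZL BL)
open Cfsg.Agent.Omega.NO3S.EThree.Frame (Bg)
open Cfsg.Agent.Omega.NO3S.Level (lev lev_mono lev_isLev lev_le)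
open Cfsg.Agent.Omega.OM.Lev.Low.Line (Full)
open Cfsg.Agent.Omega.EK3.Q.Loc (YI CI mem_YI mem_CI)

universe u

variable {G : Type u} [Group G] [Finite G] {ι : Type} [Finite ι] {S : Sylow 2 G} {P : Subgroup G} {n : ℕ}
  {L W Z C A : ι → Subgroup G}

/-- An element of `N_G(B)` which centralises `Z p` for all `p ≠ l` centralises `Z_J`. -/
theorem mem_cent (hL : Ln S P n L W Z C A 2)
    (hB : Bg S P (BL (S : Subgroup G) n) (ZL (S : Subgroup G) n) L W Z C 2) {l : ι} {t : G}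
    (ht : t ∈ normalizer (BL (S : Subgroup G) n : Set G))
    (hc : ∀ p, p ≠ l → ∀ x ∈ Z p, t * x = x * t) : t ∈ centralizer (ZL (S : Subgroup G) n : Set G) := by
  obtain ⟨j, hj, -, -⟩ := SwapL.perm hL ht l
  have hjl : j = l := by
    by_contra hne
    have h1 : cj t (Z j) = Z j := by
      have h2 : t ∈ centralizer (Z j : Set G) := mem_centralizer_iff.2 fun x hx => (hc j hne x hx).symm
      exact cj_eq_of_mem_normalizer (centralizer_le_normalizer _ h2)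
    have h2 := hj.trans h1.symm
    have h3 := congrArg (cj t⁻¹) h2
    rw [cj_inv_cj, cj_inv_cj] at h3
    exact hne (SwapL.Z_inj hL h3).symm
  rw [hjl] at hj
  have hl : ∀ z ∈ Z l, z * t = t * z := fun z hz => (SwapL.cent_of_cj hL hj hz).symm
  exact EK3.Q.Loc.mem_D hB (i := l) (j := l) (mem_CI.2 fun p hp _ z hz => (hc p hp z hz).symm) hl hl

/-- **(syl)** `B` is a Sylow 2-subgroup of `C_G(Z p : p ≠ l)`. -/
theorem syl (hL : Ln S P n L W Z C A 2)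
    (hB : Bg S P (BL (S : Subgroup G) n) (ZL (S : Subgroup G) n) L W Z C 2) :
    ∀ (l : ι) (T : Subgroup G), IsPGroup 2 T → BL (S : Subgroup G) n ≤ T →
      (∀ p, p ≠ l → T ≤ centralizer (Z p : Set G)) → T ≤ BL (S : Subgroup G) n := by
  intro l T hT hBT hc
  refine EK3.Q.Loc.le_B_of hB hT (fun t ht => ?_) (hBT.trans le_normalizer)
  exact mem_cent hL hB (l := l) (hB.le_norm_B hT hBT ht) fun p hp x hx =>
    (mem_centralizer_iff.1 (hc p hp ht) x hx).symm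

/-- **(loc2)**, strong form: `E = Ω₁Z(O₂(C_G(Z p : p ≠ l, m)))`. -/
theorem loc2' (hB : Bg S P (BL (S : Subgroup G) n) (ZL (S : Subgroup G) n) L W Z C 2) {l m r : ι} (hl : r ≠ l)
    (hm : r ≠ m) : ∃ E : Subgroup G, IsElementaryAbelian 2 E ∧ E ≤ BL (S : Subgroup G) n ∧
      ZL (S : Subgroup G) n ≤ E ∧ ∀ g : G, (∀ p, p ≠ l → p ≠ m → ∀ x ∈ Z p, g * x = x * g) →
        g ∈ normalizer (E : Set G) := by
  refine ⟨zc (o2 (CI Z l m)), NO3S.OneLine.zc_elem _, (zc_le _).trans (EK3.Q.Loc.o2CI_le_B hB l m),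
    EK3.Q.Loc.ZJ_le_zc hB hl hm, fun g hg => EK3.Q.Loc.le_normalizer_zc_o2 hB _ ?_⟩
  exact mem_CI.2 fun p hp hp' z hz => (hg p hp hp' z hz).symm

/-- **(loc1)** -/
theorem loc1 (hB : Bg S P (BL (S : Subgroup G) n) (ZL (S : Subgroup G) n) L W Z C 2) :
    ∀ l : ι, ∃ E : Subgroup G, IsElementaryAbelian 2 E ∧ E ≤ BL (S : Subgroup G) n ∧
      ZL (S : Subgroup G) n ≤ E ∧ ∀ g : G, (∀ p, p ≠ l → ∀ x ∈ Z p, g * x = x * g) →
        g ∈ normalizer (E : Set G) := by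
  intro l
  obtain ⟨r, hr⟩ := hB.two l
  obtain ⟨E, h1, h2, h3, h4⟩ := loc2' hB hr hr
  exact ⟨E, h1, h2, h3, fun g hg => h4 g fun p hp _ => hg p hp⟩

/-- **(loc2)**: `k ≥ 3`. -/
theorem loc2 (hB : Bg S P (BL (S : Subgroup G) n) (ZL (S : Subgroup G) n) L W Z C 2)
    (h3 : ∀ l m : ι, ∃ r, r ≠ l ∧ r ≠ m) :
    ∀ l m : ι, l ≠ m → ∃ E : Subgroup G, IsElementaryAbelian 2 E ∧ E ≤ (S : Subgroup G) ∧
      (∀ x ∈ Z l, ∀ y ∈ Z m, x ≠ 1 → y ≠ 1 → x * y ∈ E) ∧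
      ∀ g : G, (∀ p, p ≠ l → p ≠ m → ∀ x ∈ Z p, g * x = x * g) → g ∈ normalizer (E : Set G) := by
  intro l m _
  obtain ⟨r, hl, hm⟩ := h3 l m
  obtain ⟨E, h1, h2, h4, h5⟩ := loc2' hB hl hm
  exact ⟨E, h1, h2.trans hB.BS, fun x hx y hy _ _ =>
    mul_mem (h4 (hB.fr.Z_le l hx)) (h4 (hB.fr.Z_le m hy)), h5⟩

omit [Finite ι] [Finite G] in
/-- a third index -/
theorem third {k : ℕ} (hk : 3 ≤ k) (i j : Fin k) : ∃ l, l ≠ i ∧ l ≠ j := by
  by_contra hcon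
  push Not at hcon
  have h1 : ∀ l : Fin k, l = i ∨ l = j := fun l => by
    by_cases hl : l = i
    · exact Or.inl hl
    · exact Or.inr (hcon l hl)
  have h2 : (Finset.univ : Finset (Fin k)) ⊆ {i, j} := fun l _ => by
    rcases h1 l with rfl | rfl <;> simp
  have h3 := Finset.card_le_card h2
  rw [Finset.card_univ, Fintype.card_fin] at h3
  have h4 : ({i, j} : Finset (Fin k)).card ≤ 2 := Finset.card_le_two
  omega

/-- `B_j = C_S(Ω₁Z(lev S j)) ≤ B` -/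
theorem BL_le {j : ℕ} (hj : j ≤ n) : LevB.BL (S : Subgroup G) j ≤ BL (S : Subgroup G) n :=
  BL_mono (S : Subgroup G) (by omega : j ≤ n + 1)

/-- an element of `S` centralising `X_j = Ω₁Z(lev S j)` lies in `B_j` -/
theorem mem_B0 {j : ℕ} {e : G} (he : e ∈ (S : Subgroup G))
    (hc : e ∈ centralizer (zc (lev (S : Subgroup G) j) : Set G)) : e ∈ LevB.BL (S : Subgroup G) j := ⟨he, hc⟩

omit [Finite ι] in
/-- `Ω₁Z(S) ≤ Z_J` -/
theorem zc_le_ZJ (hB : Bg S P (BL (S : Subgroup G) n) (ZL (S : Subgroup G) n) L W Z C 2) :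
    zc (S : Subgroup G) ≤ ZL (S : Subgroup G) n := by
  intro x hx
  obtain ⟨h1, h2, h3⟩ := ZN.ChoiceBase.mem_zc.1 hx
  have hZB : ZL (S : Subgroup G) n ≤ BL (S : Subgroup G) n := hB.fr.ZJV.trans hB.fr.VB
  have hxB : x ∈ BL (S : Subgroup G) n := hB.mem_B h1 fun z hz => (h3 z (hB.BS (hZB hz))).symm
  rw [← hB.fr.zcB]
  exact ZN.ChoiceBase.mem_zc.2 ⟨hxB, h2, fun y hy => h3 y (hB.BS hy)⟩

/-- **`Ω₁Z(S) = {1, z}`**, `z ∈ Z_J` of full support. -/
theorem exists_z (hL : Ln S P n L W Z C A 2)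
    (hB : Bg S P (BL (S : Subgroup G) n) (ZL (S : Subgroup G) n) L W Z C 2) :
    ∃ z ∈ ZL (S : Subgroup G) n, Full C z ∧ z ≠ 1 ∧ z ∈ zc (S : Subgroup G) ∧
      ∀ x ∈ zc (S : Subgroup G), x ≠ 1 → x = z := by
  obtain ⟨z, hz, hf⟩ := Line.exists_full hL.fr
  have hne : ∃ i : ι, True := by
    by_contra hcon
    push Not at hcon
    have hι : ∀ i : ι, False := fun i => hcon i
    have h1 := hL.hyp.zc_ne
    apply h1
    rw [eq_bot_iff]
    intro x hx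
    rw [mem_bot]
    exact hB.fr.C0 x (hB.fr.ZJV (zc_le_ZJ hB hx)) fun i => (hι i).elim
  obtain ⟨i₀, -⟩ := hne
  have hz1 : z ≠ 1 := by
    rintro rfl
    exact hf i₀ (one_mem _)
  refine ⟨z, hz, hf, hz1, ?_, fun x hx hx1 => ?_⟩
  · exact ZN.ChoiceBase.mem_zc.2 ⟨hB.BS (hB.fr.VB (hB.fr.ZJV hz)), hB.fr.Vsq (hB.fr.ZJV hz),
      fun s hs => Line.S_cent hL hB hz hf hs⟩
  · have hxJ := zc_le_ZJ hB hx
    have hxs := (ZN.ChoiceBase.mem_zc.1 hx).2.2
    refine Line.full_unique hL.fr hxJ hz (fun j hj => hx1 ?_) hf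
    refine hB.fr.C0 x (hB.fr.ZJV hxJ) fun i => ?_
    obtain ⟨s, hs, e⟩ := hB.trans j i
    obtain ⟨σ, hσ⟩ := hB.perm_S hs
    have h1 : σ j = i := hB.W_inj ((hσ j).1.symm.trans e)
    have h2 : s * x * s⁻¹ ∈ cj s (C j) := ⟨x, hj, rfl⟩
    rw [(hσ j).2.2, h1, hxs s hs, mul_inv_cancel_right] at h2
    exact h2

/-- **(fact)**, for any `z` with `Ω₁Z(S) = {1, z}`. -/
theorem fact' (S : Sylow 2 G) {H : Subgroup G} (hH : IsLoc (S : Subgroup G) H) {n j : ℕ} (hj : j ≤ n)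
    (hall : ∀ R, IsParS (S : Subgroup G) R → lev (S : Subgroup G) n ≤ o2 R) {z : G} (hz : z ∈ zc (S : Subgroup G))
    (hz1 : z ≠ 1) (hzS : ∀ x ∈ zc (S : Subgroup G), x ≠ 1 → x = z) :
    H ≤ (H ⊓ normalizer (zc (lev (S : Subgroup G) j) : Set G)) ⊔ (H ⊓ centralizer ({z} : Set G)) := by
  have hlv := lev_isLev (S : Subgroup G) j
  refine hH.le_of_forall S ?_ fun Y hY hYH => ?_
  · refine le_trans (le_inf inf_le_left fun g hg => ?_) le_sup_left
    exact NO3S.Level.normalizer_le_zc _ (hlv.norm _ hlv.le le_rfl hg.2)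
  · by_cases hZ : Y ≤ normalizer (zc (S : Subgroup G) : Set G)
    · refine le_trans (le_inf hYH fun g hg => ?_) le_sup_right
      rw [mem_centralizer_singleton_iff]
      have h1 : g * z * g⁻¹ ∈ zc (S : Subgroup G) := (mem_normalizer_iff.1 (hZ hg) z).1 hz
      have h2 := hzS _ h1 fun e => hz1 (conj_eq_one_iff.1 e)
      exact mul_inv_eq_iff_eq_mul.1 h2
    · refine le_trans (le_inf hYH ?_) le_sup_left
      have h1 := hall Y ⟨hY, hZ⟩
      exact (hlv.le_norm_of_o2 ((lev_mono _ hj).trans h1) (hY.isLoc.o2_le S)).trans (NO3S.Level.normalizer_le_zc _)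

/-- `S ≤ H ≤ N_G(U)`, `U ≠ 1` a 2-group: `H` is local. -/
theorem isLoc_of (S : Sylow 2 G) {H U : Subgroup G} (hS : (S : Subgroup G) ≤ H) (hU1 : U ≠ ⊥) (hU : IsPGroup 2 U)
    (hn : H ≤ normalizer (U : Set G)) : IsLoc (S : Subgroup G) H := by
  have : Fact (Nat.Prime 2) := ⟨Nat.prime_two⟩
  refine ⟨hS, fun e => hU1 ?_⟩
  have h1 : IsPGroup 2 (((S : Subgroup G) ⊔ U : Subgroup G)) := IsPGroup.to_sup_of_normal_right' S.isPGroup' hU
    (hS.trans hn)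
  have h2 : U ≤ (S : Subgroup G) := by
    have h3 := S.is_maximal' h1 le_sup_left
    rw [← h3]
    exact le_sup_right
  have h4 : U ≤ o2 H := le_o2 hU (h2.trans hS) hn
  rw [e] at h4
  exact le_bot_iff.1 h4

/-- **(fact)** -/
theorem fact (hL : Ln S P n L W Z C A 2)
    (hB : Bg S P (BL (S : Subgroup G) n) (ZL (S : Subgroup G) n) L W Z C 2)
    (hall : ∀ R, IsParS (S : Subgroup G) R → lev (S : Subgroup G) n ≤ o2 R) :
    ∃ z ∈ ZL (S : Subgroup G) n, Full C z ∧ z ≠ 1 ∧ z ∈ zc (S : Subgroup G) ∧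
      (∀ x ∈ zc (S : Subgroup G), x ≠ 1 → x = z) ∧
      ∀ H : Subgroup G, (S : Subgroup G) ≤ H → (∃ U : Subgroup G, U ≠ ⊥ ∧ IsPGroup 2 U ∧ H ≤ normalizer (U : Set G)) →
        ∀ j ≤ n, H ≤ (H ⊓ normalizer (zc (lev (S : Subgroup G) j) : Set G)) ⊔ (H ⊓ centralizer ({z} : Set G)) := by
  obtain ⟨z, hz, hf, hz1, hzS, hu⟩ := exists_z hL hB
  refine ⟨z, hz, hf, hz1, hzS, hu, fun H hH hU j hj => ?_⟩
  obtain ⟨U, hU1, hU2, hU3⟩ := hU
  exact fact' S (isLoc_of S hH hU1 hU2 hU3) hj hall hzS hz1 hu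

end Cfsg.Agent.Omega.OM.Lev.Low.TorusK.LocIn

end

section


/-!
# TORUS, `q = 2`, `k ≥ 3`: the socket `LocOf` of `Low/PlugE.lean`

* `loc_of` : the structure `TorusK.Loc` (any finite index type with at least three elements);
* `locOf` : **`PlugE.LocOf`**.
-/

set_option autoImplicit false
set_option linter.unusedSectionVars false

namespace Cfsg.Agent.Omega.OM.Lev.Low.TorusK.LocIn

open Subgroup Cfsg Cfsg.Agent.ZN.ChoiceBase Cfsg.Agent.ZN.ChoiceSit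
open Cfsg.Agent.ZN (jj zj bau zc zl o2)
open Cfsg.Agent.Omega.MinPar (IsLoc IsPar IsParS)
open Cfsg.Agent.Omega.OM.SwapL (Ln ZL BL)
open Cfsg.Agent.Omega.NO3S.EThree.Frame (Bg)
open Cfsg.Agent.Omega.NO3S.Level (lev)
open Cfsg.Agent.Omega.OM.Lev.Low.Line (Full)
open Cfsg.Agent.Omega.OM.Lev.Low.TorusK (Loc)

universe u

theorem loc_of {G : Type u} [Group G] [Finite G] {ι : Type} [Finite ι] {S : Sylow 2 G} {P : Subgroup G} {n : ℕ}
    {L W Z C A : ι → Subgroup G} (h3 : ∀ l m : ι, ∃ r, r ≠ l ∧ r ≠ m) (hL : Ln S P n L W Z C A 2)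
    (hB : Bg S P (BL (S : Subgroup G) n) (ZL (S : Subgroup G) n) L W Z C 2)
    (hall : ∀ R, IsParS (S : Subgroup G) R → lev (S : Subgroup G) n ≤ o2 R) {j : ℕ} (hj : j ≤ n) {z : G}
    (hz : z ∈ ZL (S : Subgroup G) n) (hf : ∀ i, z ∉ C i) :
    Loc (S : Subgroup G) (BL (S : Subgroup G) n) (ZL (S : Subgroup G) n) (LevB.BL (S : Subgroup G) j)
      (zc (lev (S : Subgroup G) j)) Z z where
  syl := syl hL hB
  loc1 := loc1 hB
  loc2 := fun l m hlm => by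
    obtain ⟨r, hl, hm⟩ := h3 l m
    obtain ⟨E, h1, h2, h4, h5⟩ := loc2' hB hl hm
    exact ⟨E, h1, fun e he hc => mem_B0 (hB.BS (h2 he)) (mem_centralizer_iff.2 fun x hx => (hc x hx).symm),
      fun x hx y hy _ _ => mul_mem (h4 (hB.fr.Z_le l hx)) (h4 (hB.fr.Z_le m hy)), h5⟩
  fact := fun H hH hU => by
    obtain ⟨z', hz', hf', -, -, -, h6⟩ := fact hL hB hall
    rw [Line.full_unique hL.fr hz hz' hf hf']
    exact h6 H hH hU j hj

/-- **The socket `LocOf`.** -/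
theorem locOf : PlugE.LocOf.{u} := fun G _ _ k S P n L W Z C A hk hL hB hall j hj z hz hf =>
  loc_of (third hk) hL hB hall hj hz hf

end Cfsg.Agent.Omega.OM.Lev.Low.TorusK.LocIn

end

section


/-!
# TORUS, `k ≥ 3`: the torus theorem, and the socket `NoLowK`

`torusOf : TorusOf`, `noLowK : NoLowK K`, `uniLevK : UniLevK K` (UNI+ at the levels, `q = 2`, `k ≥ 3`).
-/

set_option autoImplicit false

namespace Cfsg.Agent.Omega.OM.Lev.Low.TorusK.Done

open Subgroup Cfsg Cfsg.Agent.Omega.OM.Lev.Low Cfsg.Agent.Omega.OM.Lev.Low.TorusK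

universe u

/-- **`TorusOf`** (helper607, helper12, helper543, helper472, helper548, helper646). -/
theorem torusOf : PlugE.TorusOf.{u} :=
  fun _ _ _ _ _ _ _ _ _ _ _ _ _ _ _ _ _ _ _ _ _ _ _ _ _ _ h k a =>
    EndFam.false_one h k a fun _ _ _ _ f m =>
      TD.theta ⟨h, f.bk, fun i => Loc.fam_norm h f.bk i, fun i j _ _ hu _ hv => Loc.fam_comm h f.bk i j hu hv⟩ m

/-- **`NoLowK`.** -/
theorem noLowK {K : Frame.Cls.{u}} : EK3.UniLevK.NoLowK K :=
  PlugE.noLowK_of LocIn.locOf torusOf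

/-- **UNI+ at the levels, `q = 2`, `k ≥ 3`.** -/
theorem uniLevK {K : Frame.Cls.{u}} : EK3.OfMul.UniLevK K :=
  EK3.UniLevK.uniLevK_of noLowK

end Cfsg.Agent.Omega.OM.Lev.Low.TorusK.Done

end

end

-- merged: Cfsg.Agent.Mrg.Omega.OM.LowT.Full
section

section


/-!
# TORUS, `q = 2`: (W) (helper607 #23961), over the frame `SWT.Ln P n`

Port of `OM/Lev/Low/Full.lean`.

* `full_of_conj` : **(W)**: if `z, g z g⁻¹ ∈ Z_J` and `z` has full support then so has `g z g⁻¹`;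
* `full_V'` : the same in `V`;
* `line'` : (L) over `Ln` + `Bg`.
-/

set_option autoImplicit false
set_option linter.unusedSectionVars false

namespace Cfsg.Agent.Omega.OM.LowT.Line

open Subgroup Cfsg Cfsg.Agent.ZN.ChoiceBase Cfsg.Agent.ZN.ChoiceSit
open Cfsg.Agent.ZN (jj zj bau zc zl o2)
open Cfsg.Agent.Omega.OM.Lev.Uni (FrL)
open Cfsg.Agent.Omega.OM.SWT (Ln LV)
open Cfsg.Agent.Omega.OM.Lev.Low.Line
open Cfsg.Agent.Omega.NO3S.EThree.Frame (Bg)
open Cfsg.Agent.Omega.NO3S.Level (lev)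

universe u

section W

variable {G : Type u} [Group G] [Finite G] {ι : Type} [Finite ι] {S : Sylow 2 G} {P : Subgroup G} {n : LV S}
  {L W Z C A : ι → Subgroup G}

theorem norm_ZL {y z : G} (hy : y ∈ normalizer (SWT.BT n : Set G)) (hz : z ∈ SWT.ZT n) :
    y * z * y⁻¹ ∈ SWT.ZT n := by
  have h4 := cj_eq_of_mem_normalizer ((SWT.lb n).norm_B_le hy)
  have h5 : y * z * y⁻¹ ∈ cj y (SWT.ZT n) := ⟨z, hz, rfl⟩
  rwa [h4] at h5

theorem full_norm (hL : Ln P n L W Z C A 2) {y z : G} (hy : y ∈ normalizer (SWT.BT n : Set G))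
    (hz : z ∈ SWT.ZT n) (hf : Full C z) : Full C (y * z * y⁻¹) := by
  intro j hj
  obtain ⟨i, -, -, h1⟩ := LowT.perm hL (inv_mem hy) j
  have h2 := (h1 _ (norm_ZL hy hz)).2 hj
  have e : y⁻¹ * (y * z * y⁻¹) * y⁻¹⁻¹ = z := by group
  rw [e] at h2
  exact hf i h2

/-- `S` centralises the element of full support -/
theorem S_cent (hL : Ln P n L W Z C A 2)
    (hB : Bg S P (SWT.BT n) (SWT.ZT n) L W Z C 2) {z : G}
    (hz : z ∈ SWT.ZT n) (hf : Full C z) {s : G} (hs : s ∈ (S : Subgroup G)) : s * z = z * s := by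
  have h1 := hB.S_norm_B hs
  have h2 := full_unique hL.fr (norm_ZL h1 hz) hz (full_norm hL h1 hz hf) hf
  exact mul_inv_eq_iff_eq_mul.1 h2

/-- **(W)** -/
theorem full_of_conj (hL : Ln P n L W Z C A 2)
    (hB : Bg S P (SWT.BT n) (SWT.ZT n) L W Z C 2) {z g : G}
    (hz : z ∈ SWT.ZT n) (hg : g * z * g⁻¹ ∈ SWT.ZT n) (hf : Full C z) :
    Full C (g * z * g⁻¹) := by
  have : Fact (Nat.Prime 2) := ⟨Nat.prime_two⟩
  obtain ⟨z', hz'⟩ : ∃ z', z' = g * z * g⁻¹ := ⟨_, rfl⟩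
  rw [← hz'] at hg ⊢
  have hBz : SWT.BT n ≤ centralizer ({z'} : Set G) := by
    intro b hb
    rw [hB.eqB] at hb
    rw [mem_centralizer_singleton_iff]
    exact (mem_centralizer_iff.1 hb.2 z' hg).symm
  have hSz : ((g • S : Sylow 2 G) : Subgroup G) ≤ centralizer ({z'} : Set G) := by
    rw [Sylow.coe_subgroup_smul]
    rintro _ ⟨s, hs, rfl⟩
    rw [mem_centralizer_singleton_iff]
    have h1 := S_cent hL hB hz hf hs
    change g * s * g⁻¹ * z' = z' * (g * s * g⁻¹)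
    rw [hz']
    calc g * s * g⁻¹ * (g * z * g⁻¹) = g * (s * z) * g⁻¹ := by group
      _ = g * (z * s) * g⁻¹ := by rw [h1]
      _ = _ := by group
  have hB2 : IsPGroup 2 ((SWT.BT n).subgroupOf (centralizer ({z'} : Set G))) :=
    (hB.bau_two).comap_of_injective _ (Subgroup.subtype_injective _)
  obtain ⟨R, hR⟩ := hB2.exists_le_sylow
  obtain ⟨x, hx⟩ := MulAction.exists_smul_eq (centralizer ({z'} : Set G)) ((g • S).subtype hSz) R
  have h2 : SWT.BT n ≤ cj ((x : G) * g) (S : Subgroup G) := by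
    intro b hb
    have h3 : (⟨b, hBz hb⟩ : centralizer ({z'} : Set G)) ∈ R := hR hb
    rw [← hx] at h3
    obtain ⟨⟨c, hc⟩, hc1, e⟩ := h3
    obtain ⟨s, hs, rfl⟩ := hc1
    refine ⟨s, hs, ?_⟩
    have e2 : (x : G) * (g * s * g⁻¹) * (x : G)⁻¹ = b := congrArg Subtype.val e
    change (x : G) * g * s * ((x : G) * g)⁻¹ = b
    rw [← e2]
    group
  have h3 : cj ((x : G) * g)⁻¹ (SWT.BT n) ≤ (S : Subgroup G) := by
    have := cj_mono ((x : G) * g)⁻¹ h2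
    rwa [cj_inv_cj] at this
  have h4 : ((x : G) * g)⁻¹ ∈ normalizer (SWT.BT n : Set G) :=
    mem_normalizer_iff_cj.2 (SWT.wc n (S : Subgroup G) S.isPGroup' (SWT.lb n).BS _ h3)
  have h5 : (x : G) * g ∈ normalizer (SWT.BT n : Set G) := inv_mem_iff.1 h4
  have h6 := full_norm hL h5 hz hf
  have e : (x : G) * g * z * ((x : G) * g)⁻¹ = z' := by
    have h7 := mem_centralizer_singleton_iff.1 x.2
    calc (x : G) * g * z * ((x : G) * g)⁻¹ = x * (g * z * g⁻¹) * (x : G)⁻¹ := by group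
      _ = z' := by rw [← hz', h7]; group
  rwa [e] at h6

/-- (W) in `V` -/
theorem full_V' (hL : Ln P n L W Z C A 2)
    (hB : Bg S P (SWT.BT n) (SWT.ZT n) L W Z C 2) {v g : G}
    (hv : v ∈ zl (S : Subgroup G) P) (hg : g * v * g⁻¹ ∈ zl (S : Subgroup G) P) (hf : Full C v) :
    Full C (g * v * g⁻¹) :=
  full_V hL.fr (tr_of hB) (fun _ hz _ hg hf => full_of_conj hL hB hz hg hf) hv hg hf

/-- **(L)** over `Ln` + `Bg` -/
theorem line' (hL : Ln P n L W Z C A 2)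
    (hB : Bg S P (SWT.BT n) (SWT.ZT n) L W Z C 2)
    {c N : Subgroup G} (hcV : c ≤ zl (S : Subgroup G) P) (hc4 : Nat.card c = 4)
    (hfix : ∀ x ∈ zc n.K, ∃ a ∈ c, a * x ∈ N)
    (htriv : c ⊓ N = ⊥) (hBc : ∀ b ∈ SWT.BT n, ∀ x ∈ c, b * x * b⁻¹ ∈ c)
    (hBN : ∀ b ∈ SWT.BT n, ∀ x ∈ N, b * x * b⁻¹ ∈ N)
    (hZJ : ¬ SWT.ZT n ≤ N) {τ : G} (hτc : ∀ x ∈ c, τ * x * τ⁻¹ ∈ c)
    (hτ1 : ∀ x ∈ c, τ * x * τ⁻¹ = x → x = 1) (hτN : ∀ x ∈ N, τ * x * τ⁻¹ = x) :
    ∃ l, c = W l ∧ (∀ m, m ≠ l → W m ≤ N) ∧ ∀ m, m ≠ l → Z m ≤ N :=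
  line hL.fr (tr_of hB) (fun _ hz _ hg hf => full_of_conj hL hB hz hg hf) hcV hc4 hfix htriv hBc hBN hZJ hτc
    hτ1 hτN

end W

end Cfsg.Agent.Omega.OM.LowT.Line

end

section


/-!
# (LL): minimal parabolics of lower stage, over a general top level

Port of `OM/Lev/Low/LowMain.lean` to the frame `SWT.Ln P n`, `n : LV S`: `qv`, `zc_T_le`, `low_four`.
-/

set_option autoImplicit false
set_option linter.unusedSectionVars false

namespace Cfsg.Agent.Omega.OM.LowT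

open Subgroup Cfsg Cfsg.Agent.ZN.ChoiceBase Cfsg.Agent.ZN.ChoiceSit
open Cfsg.Agent.ZN (jj zj bau zc zl o2)
open Cfsg.Agent.MinSimple.MinParabolic (IsMinPar)
open Cfsg.Agent.Omega.OM.SWT (Ln LV ZT BT)
open Cfsg.Agent.Omega.OM.Lev.Low
open Cfsg.Agent.Omega.NO3S.Level (lev lev_mono lev_isLev Lev lev_le)

universe u

variable {G : Type u} [Group G] [Finite G] {ι : Type} {S : Sylow 2 G} {P : Subgroup G} {n : LV S}
  {L W Z C A : ι → Subgroup G} {q : ℕ}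

/-- **`QV`** -/
theorem qv [Finite ι] (h : Ln P n L W Z C A q) {T : Subgroup G} (hT : IsPGroup 2 T) (hB : SWT.BT n ≤ T) {j : ℕ}
    (hj : lev (S : Subgroup G) j ≤ n.K) :
    YB.QV T (zc (lev (S : Subgroup G) j)) (o2 P) (zl (S : Subgroup G) P) :=
  SWT.qv h hT hB (D := ⟨_, lev_isLev (S : Subgroup G) j⟩) hj

/-- `Ω₁Z(T) ≤ Z_J` -/
theorem zc_T_le {T : Subgroup G} (hT : IsPGroup 2 T) (hB : SWT.BT n ≤ T) : zc T ≤ SWT.ZT n :=
  SWT.zc_T_le n hT hB

/-- **(LL), `q > 2`.** -/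
theorem low_four [Finite ι] (h : Ln P n L W Z C A q) (hq : 2 < q) {T Y : Subgroup G} (hT : Syl T Y)
    (hB : SWT.BT n ≤ T) (hP : IsMinPar T Y) (hc : Y ⊓ centralizer (o2 Y : Set G) ≤ o2 Y)
    (hZ : ¬ Y ≤ centralizer (zc T : Set G)) {j : ℕ} (hj : lev (S : Subgroup G) j ≤ n.K) :
    lev (S : Subgroup G) j ≤ o2 Y :=
  SWT.low_lev h hq hT hB hP hc hZ hj

end Cfsg.Agent.Omega.OM.LowT

end

section


/-!
# The output of (4), (5), (W), `q = 2`, over a general top level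

Port of `OM/Lev/Low/YKInst.lean` to the frame `SWT.Ln P n`, `n : LV S` (`yk_nat`, `yk_sym`, `NB'` are frame-free).
-/

set_option autoImplicit false
set_option linter.unusedSectionVars false

namespace Cfsg.Agent.Omega.OM.LowT

open Subgroup Cfsg Cfsg.Agent.ZN.ChoiceBase Cfsg.Agent.ZN.ChoiceSit
open Cfsg.Agent.ZN (jj zj bau zc zl o2)
open Cfsg.Agent.MinSimple.MinParabolic (IsMinPar)
open Cfsg.Agent.Omega.NO3S.OneLine (NatC natC_of)
open Cfsg.Agent.Omega.OM.Lev.Nat (Wn mem_Wn)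
open Cfsg.Agent.Omega.OM.GLev
open Cfsg.Agent.Omega.FFThm (NatKM SymKM)
open Cfsg.Agent.Omega.FrameFF (cv)
open Cfsg.Agent.Omega.OM.SWT (Ln LV ZT)
open Cfsg.Agent.Omega.OM.Lev.Low hiding OutN exists_out
open Cfsg.Agent.Omega.NO3S.Level (lev lev_mono lev_isLev Lev lev_le)
open scoped commutatorElement

universe u

variable {G : Type u} [Group G] [Finite G]

/-- **The output of (4), (5), (W).** -/
structure OutN {ι : Type} {S : Sylow 2 G} (P : Subgroup G) (n : LV S) (L W Z C A : ι → Subgroup G) (T Y : Subgroup G)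
    (j : ℕ) {F : Type} [Field F] {k : ℕ} (M : NatC F T Y (zl T Y) (cv T Y) k) (K Nn c : Fin k → Subgroup G) :
    Prop where
  inp : Inp P n L W Z C A T Y j K (fun i => Wn M i) Nn c
  nb : NB' M (LevB.BL (S : Subgroup G) j) (zc (lev (S : Subgroup G) j)) K c
  zT : ∀ l, ¬ zc T ≤ Nn l
  wide : ∀ l, ∃ v ∈ zl (S : Subgroup G) P, ∃ a ∈ c l, a * v ∈ Nn l ∧ a ≠ 1 ∧
      ∃ v' ∈ zl (S : Subgroup G) P, ∃ a' ∈ c l, a' * v' ∈ Nn l ∧ a' ≠ 1 ∧ a ≠ a'

/-- **The output of (4), (5), (W), `q = 2`.** -/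
theorem exists_out {ι : Type} [Finite ι] {S : Sylow 2 G} {P : Subgroup G} {n : LV S} {L W Z C A : ι → Subgroup G}
    (h : Ln P n L W Z C A 2) {T Y : Subgroup G} (hT : Syl T Y) (hB : SWT.BT n ≤ T)
    (hP : IsMinPar T Y) (hc : Y ⊓ centralizer (o2 Y : Set G) ≤ o2 Y) (hZ : ¬ Y ≤ centralizer (zc T : Set G)) {j : ℕ}
    (hj : lev (S : Subgroup G) j ≤ n.K) (hlow : ∀ i < j, lev (S : Subgroup G) i ≤ o2 Y) (hnj : ¬ lev (S : Subgroup G) j ≤ o2 Y) :
    ∃ (X : Subgroup G) (AA' : Set (Subgroup G)) (hge : GE T Y X AA')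
      (_ : BZ T X AA' (LevB.BL (S : Subgroup G) j) (zc (lev (S : Subgroup G) j))) (_ : ∃ A ∈ AA', ¬ A ≤ o2 Y)
      (F : Type) (_ : Field F) (_ : Finite F) (_ : CharP F 2) (k : ℕ) (hk : 0 < k)
      (N : NatKM F T Y (zl T Y) (cv T Y) k) (K Nn c : Fin k → Subgroup G),
      OutN P n L W Z C A T Y j (natC_of hge.hm hk N.toNatK) K Nn c := by
  have hBj : LevB.BL (S : Subgroup G) j ≤ T := (BL_le_BT hj).trans hB
  obtain ⟨X, AA', hge, hbz, hex, hcon⟩ := exists_ge S hT hBj hP hc hlow hnj hZ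
  have hzT : ∀ {Λ : Type} {K E Nn c : Λ → Subgroup G},
      YK T Y (zc (lev (S : Subgroup G) j)) (LevB.BL (S : Subgroup G) j) K E Nn c → ∀ l, ¬ zc T ≤ Nn l := by
    intro Λ K E Nn c hyk l hle
    refine hZ ((hyk.sup l).trans (sup_le (NO3S.Level.le_centralizer_zc T) fun x hx => mem_centralizer_iff.2
      fun z hz => ?_))
    have hzX : z ∈ zc (lev (S : Subgroup G) j) :=
      (isLev_le hT.2.1 hBj hz : z ∈ zc (lev (S : Subgroup G) j))
    exact ((hyk.memN l z hzX).1 (hle hz) x hx).symm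
  rcases hcon with ⟨F, hF1, hF2, hF3, k, hk, ⟨N⟩⟩ | ⟨k, m, hk, hm, ⟨N⟩⟩
  · obtain ⟨K, Nn, c, hyk, hnb⟩ := yk_nat hge hbz N hk hex
    have hin : Inp P n L W Z C A T Y j K (fun i => Wn (natC_of hge.hm hk N.toNatK) i) Nn c :=
      ⟨h, hT, hB, hj, hc, hlow, hyk⟩
    have hz := hzT hyk
    exact ⟨X, AA', hge, hbz, hex, F, hF1, hF2, hF3, k, hk, N, K, Nn, c, hin, hnb, hz, hin.wide ⟨⟨0, hk⟩, hz _⟩⟩
  · exfalso
    obtain ⟨ι', hf, ⟨i⟩, W', K, d, hyk, hpb, hd2⟩ := yk_sym hge hbz N hk (by omega) hex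
    have hin : Inp P n L W Z C A T Y j K W' (fun i => centralizer (K i : Set G)) (fun i => zpowers (d i)) :=
      ⟨h, hT, hB, hj, hc, hlow, hyk⟩
    obtain ⟨v, -, a, ha, -, ha1, v', -, a', ha', -, ha1', hne⟩ := hin.wide ⟨i, hzT hyk i⟩ i
    have h1 : ∀ x ∈ zpowers (d i), x ≠ 1 → x = d i := by
      intro x hx hx1
      obtain ⟨r, rfl⟩ := mem_zpowers_iff.1 hx
      rcases Int.even_or_odd r with ⟨s, rfl⟩ | ⟨s, rfl⟩
      · exfalso
        apply hx1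
        rw [← two_mul, zpow_mul, zpow_ofNat, pow_two, hd2, one_zpow]
      · rw [zpow_add, zpow_mul, zpow_ofNat, pow_two, hd2, one_zpow, one_mul, zpow_one]
    exact hne ((h1 a ha ha1).trans (h1 a' ha' ha1').symm)
where
  isLev_le {S : Sylow 2 G} {T : Subgroup G} {j : ℕ} (hT : IsPGroup 2 T) (hB : LevB.BL (S : Subgroup G) j ≤ T) :
      zc T ≤ zc (lev (S : Subgroup G) j) :=
    (LevB.isLev_T S hT ((LevB.lb S j).KB.trans hB)).zc_le

end Cfsg.Agent.Omega.OM.LowT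

end

section


/-!
# TORUS, `k ≥ 3`, over a general top level: the instances of `TK` and `BK` (helper607's frame)

Port of `OM/Lev/Low/TorusK/Inst.lean` from `SwapL.Ln` (top level `lev S n`) to `SWT.Ln` (top level `n : LV S`).
`stM`, `stY`, `fml_of`, `Loc` are those of `OM/Lev/Low/TorusK/Inst.lean`.

* `tk_of` : the instance of `TK`;
* `Bk0` : the fields of the block of `R` (`Core.Blk`) which are used;
* `bk_of` : the instance of `BK`.
-/

set_option autoImplicit false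
set_option linter.unusedSectionVars false

namespace Cfsg.Agent.Omega.OM.LowT.TorusK

open Subgroup Cfsg Cfsg.Agent.ZN.ChoiceBase Cfsg.Agent.ZN.ChoiceSit
open Cfsg.Agent.ZN (jj zj bau zc zl o2)
open Cfsg.Agent.Omega.OM.SWT (LV Ln ZT BT)
open Cfsg.Agent.Omega.NO3S.Level (lev lev_mono lev_isLev Lev lev_le BO nxt)
open Cfsg.Agent.Omega.NO3S.EThree.Frame (Bg)
open Cfsg.Agent.Omega.OM.Lev.Low.SetS (S_norm_lev S_norm_zc S_norm_BL)
open Cfsg.Agent.Omega.FrameFF (cv)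
open Cfsg.Agent.Omega.OM.Lev.Low.Line (Full)
open Cfsg.Agent.Omega.OM.LowT.Line (full_of_conj S_cent)
open Cfsg.Agent.Omega.OM.Lev.Low.TorusK (TK BK stM stY fml_of Loc)

open scoped commutatorElement

universe u

variable {G : Type u} [Group G] [Finite G]

section tk

variable {ι : Type} [Finite ι] {S : Sylow 2 G} {P : Subgroup G} {n : LV S} {L W Z C A : ι → Subgroup G}

/-- **The instance of `TK`.** -/
theorem tk_of (hln : Ln P n L W Z C A 2) (hbg : Bg S P (BT n) (ZT n) L W Z C 2) {j : ℕ}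
    (hj : lev (S : Subgroup G) j ≤ n.K) {z : G} (hz : z ∈ ZT n) (hzC : ∀ i, z ∉ C i)
    (hloc : Loc (S : Subgroup G) (BT n) (ZT n) (LevB.BL (S : Subgroup G) j) (zc (lev (S : Subgroup G) j)) Z z) :
    TK (S : Subgroup G) (BT n) (o2 P) (zl (S : Subgroup G) P) (zc n.K) (ZT n) (LevB.BL (S : Subgroup G) j)
      (zc (lev (S : Subgroup G) j)) (stM (S : Subgroup G) j) (stY (S : Subgroup G) j) L W Z C A z where
  fr := hln.fr
  fml := fml_of S j
  two := S.isPGroup'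
  BS := hbg.BS
  B0B := BL_le_BT hj
  SB := hbg.S_norm_B
  SB0 := S_norm_BL S j
  SX := S_norm_zc S j
  zB := LevB.zc_B S j
  VX := hln.fr.VX.trans ((lev_isLev (S : Subgroup G) j).zc_le_zc hj n.lev.le)
  XY := by
    cases j with
    | zero => exact le_top
    | succ m => exact (lev_isLev (S : Subgroup G) m).zc_le_zc (lev_mono _ (Nat.le_succ m)) (lev_le _ _)
  mX := fun s hs hc => mem_inf.2 ⟨hs, mem_centralizer_iff.2 fun x hx => (hc x hx).symm⟩
  cQ := fun x hx hc => by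
    have h1 := SWT.qv hln hbg.bau_two le_rfl (D := ⟨_, lev_isLev (S : Subgroup G) j⟩) hj
    exact (h1.mem x).2 ⟨hx, hc⟩
  SM := by
    cases j with
    | zero => exact le_top
    | succ m => exact S_norm_lev S m
  MY := by
    cases j with
    | zero =>
      show (⊤ : Subgroup G) ≤ normalizer (((⊤ : Subgroup G) : Subgroup G) : Set G)
      intro x _
      rw [mem_normalizer_iff]
      exact fun y => ⟨fun _ => mem_top _, fun _ => mem_top _⟩
    | succ m => exact NO3S.Level.normalizer_le_zc _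
  perm := fun s hs i => by
    obtain ⟨σ, hσ⟩ := hbg.perm_S hs
    exact ⟨σ i, hσ i⟩
  tr := hbg.trans
  wt := fun g z hz hg hf => full_of_conj hln hbg hz hg hf
  syl := hloc.syl
  loc1 := hloc.loc1
  loc2 := hloc.loc2
  zJ := hz
  zS := fun s hs => S_cent hln hbg hz hzC hs
  zC := hzC
  fact := hloc.fact

end tk

/-- **The block of `R`**: the fields of `Core.Blk` which are used. -/
structure Bk0 {ι : Type} {S : Sylow 2 G} (P : Subgroup G) (n : LV S) (L W Z C A : ι → Subgroup G) (R : Subgroup G)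
    (j : ℕ) (K N₁ c : Subgroup G) (τ : G) (l : ι) : Prop where
  ln : Ln P n L W Z C A 2
  bg : Bg S P (BT n) (ZT n) L W Z C 2
  jn : lev (S : Subgroup G) j ≤ n.K
  syl : Syl (BT n) R
  low : ∀ i < j, lev (S : Subgroup G) i ≤ o2 R
  KR : K ≤ R
  pb : PB (LevB.BL (S : Subgroup G) j) K (zl (BT n) R) N₁ (cv (BT n) R) 4
  nK : BT n ≤ normalizer ((⁅zl (BT n) R, K⁆ : Subgroup G) : Set G)
  act : ∀ t ∈ BT n, ∀ k ∈ K, ∃ k' ∈ K, ∀ v ∈ zl (BT n) R,
    t * k * t⁻¹ * v * (t * k * t⁻¹)⁻¹ = k' * v * k'⁻¹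
  cN1 : c ≤ N₁
  cD : c ⊓ cv (BT n) R = ⊥
  τK : τ ∈ K
  τB0 : τ ∈ normalizer (LevB.BL (S : Subgroup G) j : Set G)
  τc : cj τ c = c
  τ1 : ∀ x ∈ c, τ * x * τ⁻¹ = x → x = 1
  /-- `B` normalises `C_X(K)` -/
  fixN : ∀ b ∈ BT n, cj b (zc (lev (S : Subgroup G) j) ⊓ centralizer (K : Set G)) =
    zc (lev (S : Subgroup G) j) ⊓ centralizer (K : Set G)
  /-- (L) -/
  cW : c = W l
  WK : ∀ m, m ≠ l → W m ≤ centralizer (K : Set G)

section bk

variable {ι : Type} {S : Sylow 2 G} {P : Subgroup G} {n : LV S} {L W Z C A : ι → Subgroup G} {R : Subgroup G}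
  {j : ℕ} {K N₁ c : Subgroup G} {τ : G} {l : ι}

/-- `R` normalises the levels `< j` -/
theorem R_norm (h : Bk0 P n L W Z C A R j K N₁ c τ l) {m : ℕ} (hm : m < j) :
    R ≤ normalizer (lev (S : Subgroup G) m : Set G) :=
  (lev_isLev (S : Subgroup G) m).le_norm_of_o2 (h.low m hm) ((o2_le_syl h.syl).trans h.bg.BS)

/-- `⟨Ω₁Z(B)^R⟩ ≤ Ω₁Z(lev S m)`, `m < j` -/
theorem zl_le_lev (h : Bk0 P n L W Z C A R j K N₁ c τ l) {m : ℕ} (hm : m < j) :
    zl (BT n) R ≤ zc (lev (S : Subgroup G) m) := by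
  have h1 : zc (BT n) ≤ zc (lev (S : Subgroup G) m) := by
    have h2 : zc (BT n) = ZT n := h.ln.fr.zcB
    rw [h2]
    exact (lev_isLev (S : Subgroup G) m).zc_le_zc ((lev_mono _ hm.le).trans (h.jn.trans n.K_le_nx)) n.lev.next.le
  refine iSup_le fun g => ?_
  have h2 := (R_norm h hm).trans (NO3S.Level.normalizer_le_zc _)
  have h3 := cj_mono (g : G) h1
  rwa [cj_eq_of_mem_normalizer (h2 g.2)] at h3

/-- **The instance of `BK`.** -/
theorem bk_of (h : Bk0 P n L W Z C A R j K N₁ c τ l) :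
    BK (BT n) (LevB.BL (S : Subgroup G) j) (zc (lev (S : Subgroup G) j)) (stM (S : Subgroup G) j)
      (stY (S : Subgroup G) j) W l K (zl (BT n) R) N₁ (cv (BT n) R) where
  pb := h.pb
  NY := by
    cases j with
    | zero => exact le_top
    | succ m => exact zl_le_lev h (Nat.lt_succ_self m)
  KM := by
    cases j with
    | zero => exact le_top
    | succ m => exact h.KR.trans (R_norm h (Nat.lt_succ_self m))
  WN := h.cW ▸ h.cN1
  WN0 := h.cW ▸ h.cD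
  cW := fun p hp w hw k hk => mem_centralizer_iff.1 (h.WK p hp hw) k hk
  BX := fun b hb => mem_normalizer_iff_cj.2 (h.fixN b hb)
  tor := by
    refine ⟨τ, h.τK, h.τB0, fun w hw => ?_, fun w hw => h.τ1 w (h.cW ▸ hw)⟩
    rw [← h.cW] at hw ⊢
    have h1 : τ * w * τ⁻¹ ∈ cj τ c := ⟨w, hw, rfl⟩
    rwa [h.τc] at h1

end bk

end Cfsg.Agent.Omega.OM.LowT.TorusK

end

section


/-!
# TORUS, `T = B`, `q = 2`, over a general top level: the block of a parabolic `R` of finite stage over `B = BT n`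

Port of `OM/Lev/Low/Core.lean` from `SwapL.Ln` (top level `lev S n`) to `SWT.Ln` (top level `n : LV S`); instead of
`lin_V` the hypothesis (LIN) is used (`LinH`).

`R` is a minimal parabolic over `B` of characteristic 2 which moves `Ω₁Z(B)`, `lev S m ≰ O₂(R)` for some `m` with
`lev S m ≤ K₀`.

* `Blk P n L W Z C A R j K N₁ c τ l` : `R` has one block `K`, of natural type over `𝔽₄`, and its torus line is `c = W l`;
  `K` centralises all `W m`, `m ≠ l`;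
* `exists_blk_at`, `exists_blk` : it exists;
* `Blk.bk0` : its part `TorusK.Bk0`.
-/

set_option autoImplicit false
set_option linter.unusedSectionVars false

namespace Cfsg.Agent.Omega.OM.LowT.Core

open Subgroup Cfsg Cfsg.Agent.ZN.ChoiceBase Cfsg.Agent.ZN.ChoiceSit
open Cfsg.Agent.ZN (jj zj bau zc zl o2)
open Cfsg.Agent.MinSimple.MinParabolic (IsMinPar)
open Cfsg.Agent.Omega.NO3S.OneLine (NatC natC_of)
open Cfsg.Agent.Omega.OM.GLev
open Cfsg.Agent.Omega.FFThm (NatKM SymKM)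
open Cfsg.Agent.Omega.FrameFF (cv)
open Cfsg.Agent.Omega.OM.SWT (LV Ln ZT BT)
open Cfsg.Agent.Omega.NO3S.Level (lev lev_mono lev_isLev Lev lev_le)
open Cfsg.Agent.Omega.NO3S.EThree.Frame (Bg)
open Cfsg.Agent.Omega.OM.Lev.Low (YB YK NB' Mv exists_stg)
open Cfsg.Agent.Omega.OM.Lev.Low.Core (exists_all)
open scoped commutatorElement

universe u

variable {G : Type u} [Group G] [Finite G]

/-- **The block of `R`.** -/
structure Blk {ι : Type} {S : Sylow 2 G} (P : Subgroup G) (n : LV S) (L W Z C A : ι → Subgroup G) (R : Subgroup G)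
    (j : ℕ) (K N₁ c : Subgroup G) (τ : G) (l : ι) : Prop where
  ln : Ln P n L W Z C A 2
  bg : Bg S P (BT n) (ZT n) L W Z C 2
  jn : lev (S : Subgroup G) j ≤ n.K
  syl : Syl (BT n) R
  min : IsMinPar (BT n) R
  char2 : R ⊓ centralizer (o2 R : Set G) ≤ o2 R
  low : ∀ i < j, lev (S : Subgroup G) i ≤ o2 R
  nlow : ¬ lev (S : Subgroup G) j ≤ o2 R
  mv : ¬ R ≤ centralizer (zc (BT n) : Set G)
  B0K : LevB.BL (S : Subgroup G) j ≤ K
  KR : K ≤ R
  pb : PB (LevB.BL (S : Subgroup G) j) K (zl (BT n) R) N₁ (cv (BT n) R) 4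
  RK : R ≤ BT n ⊔ K
  nK : BT n ≤ normalizer ((⁅zl (BT n) R, K⁆ : Subgroup G) : Set G)
  yb : YB (BT n) (zc (lev (S : Subgroup G) j))
    (fun _ : Fin 1 => zc (lev (S : Subgroup G) j) ⊓ centralizer (K : Set G)) (fun _ => c)
  cN1 : c ≤ N₁
  N1c : N₁ ≤ c ⊔ cv (BT n) R
  cD : c ⊓ cv (BT n) R = ⊥
  c4 : Nat.card c = 4
  τK : τ ∈ K
  τB0 : τ ∈ normalizer (LevB.BL (S : Subgroup G) j : Set G)
  τc : cj τ c = c
  τ1 : ∀ x ∈ c, τ * x * τ⁻¹ = x → x = 1
  τD : ∀ v ∈ zl (BT n) R, τ * v * τ⁻¹ * v⁻¹ ∈ cv (BT n) R → v ∈ cv (BT n) R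
  cc : c ≤ ⁅⁅zl (BT n) R, K⁆, LevB.BL (S : Subgroup G) j⁆
  line : ∀ y ∈ R, ∀ v ∈ N₁, v ∉ cv (BT n) R → y * v * y⁻¹ ∈ N₁ → cj y N₁ = N₁
  act : ∀ t ∈ BT n, ∀ k ∈ K, ∃ k' ∈ K, ∀ v ∈ zl (BT n) R,
    t * k * t⁻¹ * v * (t * k * t⁻¹)⁻¹ = k' * v * k'⁻¹
  /-- `B` normalises `c` and `C_X(K)` -/
  fix : ∀ b ∈ BT n, cj b (zc (lev (S : Subgroup G) j) ⊓ centralizer (K : Set G)) =
    zc (lev (S : Subgroup G) j) ⊓ centralizer (K : Set G) ∧ cj b c = c
  /-- (L) -/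
  cW : c = W l
  WK : ∀ m, m ≠ l → W m ≤ centralizer (K : Set G)

theorem Blk.bk0 {ι : Type} {S : Sylow 2 G} {P : Subgroup G} {n : LV S} {L W Z C A : ι → Subgroup G}
    {R : Subgroup G} {j : ℕ} {K N₁ c : Subgroup G} {τ : G} {l : ι} (h : Blk P n L W Z C A R j K N₁ c τ l) :
    TorusK.Bk0 P n L W Z C A R j K N₁ c τ l :=
  ⟨h.ln, h.bg, h.jn, h.syl, h.low, h.KR, h.pb, h.nK, h.act, h.cN1, h.cD, h.τK, h.τB0, h.τc, h.τ1, fun b hb => (h.fix b hb).1, h.cW,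
    h.WK⟩

/-- a finite field of characteristic 2 with more than 2 elements has at least 4 -/
theorem four_le {F : Type} [Field F] [Finite F] [CharP F 2] (h : 2 < Nat.card F) : 4 ≤ Nat.card F := by
  have := Fintype.ofFinite F
  obtain ⟨m, -, hm⟩ := FiniteField.card F 2
  rw [Nat.card_eq_fintype_card] at h ⊢
  rw [hm] at h ⊢
  have h1 : (m : ℕ) ≠ 1 := by
    intro e
    rw [e] at h
    omega
  have h2 : 2 ≤ (m : ℕ) := by
    have := m.pos
    omega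
  calc 4 = 2 ^ 2 := rfl
    _ ≤ 2 ^ (m : ℕ) := Nat.pow_le_pow_right (by norm_num) h2

/-- the field of `exists_out` has at least 4 elements -/
theorem card_out {ι : Type} {S : Sylow 2 G} {P : Subgroup G} {n : LV S} {L W Z C A : ι → Subgroup G}
    {T Y : Subgroup G} {j : ℕ} {F : Type} [Field F] [Finite F] [CharP F 2] {k : ℕ}
    {M : NatC F T Y (zl T Y) (cv T Y) k} {K Nn c : Fin k → Subgroup G} (h : OutN P n L W Z C A T Y j M K Nn c)
    (hk : 0 < k) : 4 ≤ Nat.card F := by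
  apply four_le
  rw [← h.nb.co.card ⟨0, hk⟩]
  obtain ⟨-, -, a, ha, -, ha1, -, -, a', ha', -, ha1', hne⟩ := h.wide ⟨0, hk⟩
  have h1 : ({1, a, a'} : Set G).ncard = 3 := by
    rw [Set.ncard_eq_three]
    exact ⟨1, a, a', fun e => ha1 e.symm, fun e => ha1' e.symm, hne, rfl⟩
  have h2 : ({1, a, a'} : Set G) ⊆ (c ⟨0, hk⟩ : Set G) := by
    rintro x (rfl | rfl | rfl)
    · exact one_mem _
    · exact ha
    · exact ha'
  have h3 := Set.ncard_le_ncard h2 (Set.toFinite _)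
  rw [h1, ← Nat.card_coe_set_eq] at h3
  exact lt_of_lt_of_le (by norm_num) h3

/-- **(L)** for a line of `YB` on `Ω₁Z(lev S j)`, `lev S j ≤ K₀`. -/
theorem line_yb' {ι : Type} [Finite ι] {S : Sylow 2 G} {P : Subgroup G} {n : LV S} {L W Z C A : ι → Subgroup G}
    (hL : Ln P n L W Z C A 2) (hB : Bg S P (BT n) (ZT n) L W Z C 2) {j : ℕ} (hj : lev (S : Subgroup G) j ≤ n.K)
    {Λ : Type*} {N c : Λ → Subgroup G} (hy : YB (BT n) (zc (lev (S : Subgroup G) j)) N c) {l : Λ}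
    (hfix : ∀ b ∈ BT n, Mv N c b l l) (hcV : c l ≤ zl (S : Subgroup G) P)
    (hc4 : Nat.card (c l) = 4) (hZJ : ¬ ZT n ≤ N l) {τ : G}
    (hτc : ∀ x ∈ c l, τ * x * τ⁻¹ ∈ c l) (hτ1 : ∀ x ∈ c l, τ * x * τ⁻¹ = x → x = 1)
    (hτN : ∀ x ∈ N l, τ * x * τ⁻¹ = x) :
    ∃ i, c l = W i ∧ (∀ m, m ≠ i → W m ≤ N l) ∧ ∀ m, m ≠ i → Z m ≤ N l := by
  refine Line.line' hL hB hcV hc4 (fun x hx => hy.fix l x ?_) (hy.triv l) (fun b hb x hx => ?_) (fun b hb x hx => ?_)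
    hZJ hτc hτ1 hτN
  · exact (lev_isLev (S : Subgroup G) j).zc_le_zc hj n.lev.le hx
  · have h1 := (hfix b hb).2
    have h2 : b * x * b⁻¹ ∈ cj b (c l) := ⟨x, hx, rfl⟩
    rwa [h1] at h2
  · have h1 := (hfix b hb).1
    have h2 : b * x * b⁻¹ ∈ cj b (N l) := ⟨x, hx, rfl⟩
    rwa [h1] at h2

/-- **The block of `R` exists**, the stage `j` given. -/
theorem exists_blk_at {ι : Type} [Finite ι] {S : Sylow 2 G} {P : Subgroup G} {n : LV S}
    {L W Z C A : ι → Subgroup G} (hln : Ln P n L W Z C A 2)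
    (hbg : Bg S P (BT n) (ZT n) L W Z C 2) {R : Subgroup G}
    (hP : IsMinPar (BT n) R) (hT : Syl (BT n) R)
    (hc : R ⊓ centralizer (o2 R : Set G) ≤ o2 R) {j : ℕ} (hj : lev (S : Subgroup G) j ≤ n.K)
    (hlow : ∀ i < j, lev (S : Subgroup G) i ≤ o2 R) (hnj : ¬ lev (S : Subgroup G) j ≤ o2 R)
    (hZ : ¬ R ≤ centralizer (zc (BT n) : Set G)) (hl : LinH S P (BT n) R j) :
    ∃ (K N₁ c : Subgroup G) (τ : G) (l : ι), Blk P n L W Z C A R j K N₁ c τ l := by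
  obtain ⟨X, AA', hge, hbz, hex, F, _, _, _, k, hk, N, K, Nn, c, hout⟩ :=
    exists_out hln hT le_rfl hP hc hZ hj hlow hnj
  obtain ⟨hk1, hF⟩ := hl.one F k hk N (card_out hout hk)
  clear hout K Nn c
  subst hk1
  -- the block
  obtain ⟨K, N₁, c, τ, h1, h2, h3, h4, h5, h6, h7, h8, h9, h10, h11, h12, h13, h14, h15, h16, h17, h18, h19⟩ :=
    exists_all hge hbz N hex (by rw [hF]; norm_num)
  rw [hF] at h3 h10
  have hcV : c ≤ zl (S : Subgroup G) P := hl.le K N₁ c τ h3 h2 h7 h11 h12 h13 h14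
  have hzT : ¬ zc (BT n) ≤ zc (lev (S : Subgroup G) j) ⊓ centralizer (K : Set G) := by
    intro hle
    refine hZ (h4.trans (sup_le (NO3S.Level.le_centralizer_zc _) ?_))
    exact le_centralizer_iff.1 (hle.trans inf_le_right)
  have hfix : ∀ b ∈ BT n, Mv (fun _ : Fin 1 => zc (lev (S : Subgroup G) j) ⊓ centralizer (K : Set G)) (fun _ => c)
      b 0 0 := by
    intro b hb
    obtain ⟨i, hi⟩ := h6.perm b hb 0
    rwa [Subsingleton.elim i 0] at hi
  have hτX : ∀ x ∈ c, τ * x * τ⁻¹ ∈ c := fun x hx => by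
    have h20 : τ * x * τ⁻¹ ∈ cj τ c := ⟨x, hx, rfl⟩
    rwa [h13] at h20
  have hZJ : ¬ ZT n ≤ zc (lev (S : Subgroup G) j) ⊓ centralizer (K : Set G) := fun h =>
    hzT ((SWT.zc_T_le n hT.2.1 le_rfl).trans h)
  obtain ⟨l, hcl, hW, -⟩ := line_yb' hln hbg hj h6 (l := 0) hfix hcV h10 hZJ hτX h14
    (fun x hx => by
      have h20 := mem_centralizer_iff.1 (mem_inf.1 hx).2 τ h11
      rw [h20]; group)
  exact ⟨K, N₁, c, τ, l, ⟨hln, hbg, hj, hT, hP, hc, hlow, hnj, hZ, h1, h2, h3, h4, h5, h6, h7, h8, h9, h10, h11,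
    h12, h13, h14, h15, h16, h17, h18, hfix, hcl, fun m hm => (hW m hm).trans inf_le_right⟩⟩

/-- **The block of `R` exists.** -/
theorem exists_blk {ι : Type} [Finite ι] {S : Sylow 2 G} {P : Subgroup G} {n : LV S}
    {L W Z C A : ι → Subgroup G} (hln : Ln P n L W Z C A 2)
    (hbg : Bg S P (BT n) (ZT n) L W Z C 2) {R : Subgroup G}
    (hP : IsMinPar (BT n) R) (hT : Syl (BT n) R)
    (hc : R ⊓ centralizer (o2 R : Set G) ≤ o2 R) {m : ℕ} (hm : lev (S : Subgroup G) m ≤ n.K)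
    (hn : ¬ lev (S : Subgroup G) m ≤ o2 R) (hZ : ¬ R ≤ centralizer (zc (BT n) : Set G))
    (hlin : ∀ j, lev (S : Subgroup G) j ≤ n.K → (∀ i < j, lev (S : Subgroup G) i ≤ o2 R) →
      ¬ lev (S : Subgroup G) j ≤ o2 R → LinH S P (BT n) R j) :
    ∃ (j : ℕ) (K N₁ c : Subgroup G) (τ : G) (l : ι), Blk P n L W Z C A R j K N₁ c τ l := by
  obtain ⟨j, hjm, hlow, hnj⟩ := exists_stg (S : Subgroup G) hn
  have hj : lev (S : Subgroup G) j ≤ n.K := (lev_mono _ hjm).trans hm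
  exact ⟨j, exists_blk_at hln hbg hP hT hc hj hlow hnj hZ (hlin j hj hlow hnj)⟩

end Cfsg.Agent.Omega.OM.LowT.Core

end

section


/-!
# TORUS, `q = 2`, `k ≥ 2`: the local inputs of the frame of helper607 #23961 from `SWT.Ln` + `Bg`

Port of `OM/Lev/Low/TorusK/LocIn.lean` to a general top level `n : LV S`.

* `syl` : `B` is a Sylow 2-subgroup of `C_G(Z p : p ≠ l)`;
* `loc1`, `loc2` : `E = Ω₁Z(O₂(C_G(Z p : p ≠ l, m)))` is elementary abelian, `Z_J ≤ E ≤ B`, normalised by this centraliser;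
* `exists_z` : `Ω₁Z(S) = {1, z}`, `z ∈ Z_J` of full support;
* `fact` : a local `H ≥ S` is generated by `N_H(Ω₁Z(lev S j))` and `C_H(z)`.
-/

set_option autoImplicit false
set_option linter.unusedSectionVars false

namespace Cfsg.Agent.Omega.OM.LowT.TorusK.LocIn

open Subgroup Cfsg Cfsg.Agent.ZN.ChoiceBase Cfsg.Agent.ZN.ChoiceSit
open Cfsg.Agent.ZN (jj zj bau zc zl o2)
open Cfsg.Agent.Omega.MinPar (IsLoc IsPar IsParS)
open Cfsg.Agent.Omega.OM.Lev.Uni (FrL)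
open Cfsg.Agent.Omega.OM.SWT (Ln LV)
open Cfsg.Agent.Omega.OM.Lev.Low.TorusK.LocIn (third mem_B0 isLoc_of)
open Cfsg.Agent.Omega.NO3S.EThree.Frame (Bg)
open Cfsg.Agent.Omega.NO3S.Level (lev lev_mono lev_isLev lev_le)
open Cfsg.Agent.Omega.OM.Lev.Low.Line (Full)
open Cfsg.Agent.Omega.EK3.Q.Loc (YI CI mem_YI mem_CI)

universe u

variable {G : Type u} [Group G] [Finite G] {ι : Type} [Finite ι] {S : Sylow 2 G} {P : Subgroup G} {n : LV S}
  {L W Z C A : ι → Subgroup G}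

/-- An element of `N_G(B)` which centralises `Z p` for all `p ≠ l` centralises `Z_J`. -/
theorem mem_cent (hL : Ln P n L W Z C A 2)
    (hB : Bg S P (SWT.BT n) (SWT.ZT n) L W Z C 2) {l : ι} {t : G}
    (ht : t ∈ normalizer (SWT.BT n : Set G))
    (hc : ∀ p, p ≠ l → ∀ x ∈ Z p, t * x = x * t) : t ∈ centralizer (SWT.ZT n : Set G) := by
  obtain ⟨j, hj, -, -⟩ := LowT.perm hL ht l
  have hjl : j = l := by
    by_contra hne
    have h1 : cj t (Z j) = Z j := by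
      have h2 : t ∈ centralizer (Z j : Set G) := mem_centralizer_iff.2 fun x hx => (hc j hne x hx).symm
      exact cj_eq_of_mem_normalizer (centralizer_le_normalizer _ h2)
    have h2 := hj.trans h1.symm
    have h3 := congrArg (cj t⁻¹) h2
    rw [cj_inv_cj, cj_inv_cj] at h3
    exact hne (LowT.Z_inj hL h3).symm
  rw [hjl] at hj
  have hl : ∀ z ∈ Z l, z * t = t * z := fun z hz => (LowT.cent_of_cj hL hj hz).symm
  exact EK3.Q.Loc.mem_D hB (i := l) (j := l) (mem_CI.2 fun p hp _ z hz => (hc p hp z hz).symm) hl hl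

/-- **(syl)** `B` is a Sylow 2-subgroup of `C_G(Z p : p ≠ l)`. -/
theorem syl (hL : Ln P n L W Z C A 2)
    (hB : Bg S P (SWT.BT n) (SWT.ZT n) L W Z C 2) :
    ∀ (l : ι) (T : Subgroup G), IsPGroup 2 T → SWT.BT n ≤ T →
      (∀ p, p ≠ l → T ≤ centralizer (Z p : Set G)) → T ≤ SWT.BT n := by
  intro l T hT hBT hc
  refine EK3.Q.Loc.le_B_of hB hT (fun t ht => ?_) (hBT.trans le_normalizer)
  exact mem_cent hL hB (l := l) (hB.le_norm_B hT hBT ht) fun p hp x hx =>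
    (mem_centralizer_iff.1 (hc p hp ht) x hx).symm

/-- **(loc2)**, strong form: `E = Ω₁Z(O₂(C_G(Z p : p ≠ l, m)))`. -/
theorem loc2' (hB : Bg S P (SWT.BT n) (SWT.ZT n) L W Z C 2) {l m r : ι} (hl : r ≠ l)
    (hm : r ≠ m) : ∃ E : Subgroup G, IsElementaryAbelian 2 E ∧ E ≤ SWT.BT n ∧
      SWT.ZT n ≤ E ∧ ∀ g : G, (∀ p, p ≠ l → p ≠ m → ∀ x ∈ Z p, g * x = x * g) →
        g ∈ normalizer (E : Set G) := by
  refine ⟨zc (o2 (CI Z l m)), NO3S.OneLine.zc_elem _, (zc_le _).trans (EK3.Q.Loc.o2CI_le_B hB l m),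
    EK3.Q.Loc.ZJ_le_zc hB hl hm, fun g hg => EK3.Q.Loc.le_normalizer_zc_o2 hB _ ?_⟩
  exact mem_CI.2 fun p hp hp' z hz => (hg p hp hp' z hz).symm

/-- **(loc1)** -/
theorem loc1 (hB : Bg S P (SWT.BT n) (SWT.ZT n) L W Z C 2) :
    ∀ l : ι, ∃ E : Subgroup G, IsElementaryAbelian 2 E ∧ E ≤ SWT.BT n ∧
      SWT.ZT n ≤ E ∧ ∀ g : G, (∀ p, p ≠ l → ∀ x ∈ Z p, g * x = x * g) →
        g ∈ normalizer (E : Set G) := by
  intro l
  obtain ⟨r, hr⟩ := hB.two l
  obtain ⟨E, h1, h2, h3, h4⟩ := loc2' hB hr hr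
  exact ⟨E, h1, h2, h3, fun g hg => h4 g fun p hp _ => hg p hp⟩

/-- **(loc2)**: `k ≥ 3`. -/
theorem loc2 (hB : Bg S P (SWT.BT n) (SWT.ZT n) L W Z C 2)
    (h3 : ∀ l m : ι, ∃ r, r ≠ l ∧ r ≠ m) :
    ∀ l m : ι, l ≠ m → ∃ E : Subgroup G, IsElementaryAbelian 2 E ∧ E ≤ (S : Subgroup G) ∧
      (∀ x ∈ Z l, ∀ y ∈ Z m, x ≠ 1 → y ≠ 1 → x * y ∈ E) ∧
      ∀ g : G, (∀ p, p ≠ l → p ≠ m → ∀ x ∈ Z p, g * x = x * g) → g ∈ normalizer (E : Set G) := by
  intro l m _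
  obtain ⟨r, hl, hm⟩ := h3 l m
  obtain ⟨E, h1, h2, h4, h5⟩ := loc2' hB hl hm
  exact ⟨E, h1, h2.trans hB.BS, fun x hx y hy _ _ =>
    mul_mem (h4 (hB.fr.Z_le l hx)) (h4 (hB.fr.Z_le m hy)), h5⟩

/-- `B_j = C_S(Ω₁Z(lev S j)) ≤ B` -/
theorem BL_le {j : ℕ} (hj : lev (S : Subgroup G) j ≤ n.K) : LevB.BL (S : Subgroup G) j ≤ SWT.BT n := BL_le_BT hj

omit [Finite ι] in
/-- `Ω₁Z(S) ≤ Z_J` -/
theorem zc_le_ZJ (hB : Bg S P (SWT.BT n) (SWT.ZT n) L W Z C 2) :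
    zc (S : Subgroup G) ≤ SWT.ZT n := by
  intro x hx
  obtain ⟨h1, h2, h3⟩ := ZN.ChoiceBase.mem_zc.1 hx
  have hZB : SWT.ZT n ≤ SWT.BT n := hB.fr.ZJV.trans hB.fr.VB
  have hxB : x ∈ SWT.BT n := hB.mem_B h1 fun z hz => (h3 z (hB.BS (hZB hz))).symm
  rw [← hB.fr.zcB]
  exact ZN.ChoiceBase.mem_zc.2 ⟨hxB, h2, fun y hy => h3 y (hB.BS hy)⟩

/-- **`Ω₁Z(S) = {1, z}`**, `z ∈ Z_J` of full support. -/
theorem exists_z (hL : Ln P n L W Z C A 2)
    (hB : Bg S P (SWT.BT n) (SWT.ZT n) L W Z C 2) :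
    ∃ z ∈ SWT.ZT n, Full C z ∧ z ≠ 1 ∧ z ∈ zc (S : Subgroup G) ∧
      ∀ x ∈ zc (S : Subgroup G), x ≠ 1 → x = z := by
  obtain ⟨z, hz, hf⟩ := Lev.Low.Line.exists_full hL.fr
  have hne : ∃ i : ι, True := by
    by_contra hcon
    push Not at hcon
    have hι : ∀ i : ι, False := fun i => hcon i
    have h1 := hL.hyp.zc_ne
    apply h1
    rw [eq_bot_iff]
    intro x hx
    rw [mem_bot]
    exact hB.fr.C0 x (hB.fr.ZJV (zc_le_ZJ hB hx)) fun i => (hι i).elim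
  obtain ⟨i₀, -⟩ := hne
  have hz1 : z ≠ 1 := by
    rintro rfl
    exact hf i₀ (one_mem _)
  refine ⟨z, hz, hf, hz1, ?_, fun x hx hx1 => ?_⟩
  · exact ZN.ChoiceBase.mem_zc.2 ⟨hB.BS (hB.fr.VB (hB.fr.ZJV hz)), hB.fr.Vsq (hB.fr.ZJV hz),
      fun s hs => Line.S_cent hL hB hz hf hs⟩
  · have hxJ := zc_le_ZJ hB hx
    have hxs := (ZN.ChoiceBase.mem_zc.1 hx).2.2
    refine Lev.Low.Line.full_unique hL.fr hxJ hz (fun j hj => hx1 ?_) hf
    refine hB.fr.C0 x (hB.fr.ZJV hxJ) fun i => ?_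
    obtain ⟨s, hs, e⟩ := hB.trans j i
    obtain ⟨σ, hσ⟩ := hB.perm_S hs
    have h1 : σ j = i := hB.W_inj ((hσ j).1.symm.trans e)
    have h2 : s * x * s⁻¹ ∈ cj s (C j) := ⟨x, hj, rfl⟩
    rw [(hσ j).2.2, h1, hxs s hs, mul_inv_cancel_right] at h2
    exact h2

/-- **(fact)**, for any `z` with `Ω₁Z(S) = {1, z}`. -/
theorem fact' (S : Sylow 2 G) {H : Subgroup G} (hH : IsLoc (S : Subgroup G) H) {n : LV S} {j : ℕ}
    (hj : lev (S : Subgroup G) j ≤ n.K) (hall : ∀ R, IsParS (S : Subgroup G) R → n.K ≤ o2 R) {z : G} (hz : z ∈ zc (S : Subgroup G))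
    (hz1 : z ≠ 1) (hzS : ∀ x ∈ zc (S : Subgroup G), x ≠ 1 → x = z) :
    H ≤ (H ⊓ normalizer (zc (lev (S : Subgroup G) j) : Set G)) ⊔ (H ⊓ centralizer ({z} : Set G)) := by
  have hlv := lev_isLev (S : Subgroup G) j
  refine hH.le_of_forall S ?_ fun Y hY hYH => ?_
  · refine le_trans (le_inf inf_le_left fun g hg => ?_) le_sup_left
    exact NO3S.Level.normalizer_le_zc _ (hlv.norm _ hlv.le le_rfl hg.2)
  · by_cases hZ : Y ≤ normalizer (zc (S : Subgroup G) : Set G)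
    · refine le_trans (le_inf hYH fun g hg => ?_) le_sup_right
      rw [mem_centralizer_singleton_iff]
      have h1 : g * z * g⁻¹ ∈ zc (S : Subgroup G) := (mem_normalizer_iff.1 (hZ hg) z).1 hz
      have h2 := hzS _ h1 fun e => hz1 (conj_eq_one_iff.1 e)
      exact mul_inv_eq_iff_eq_mul.1 h2
    · refine le_trans (le_inf hYH ?_) le_sup_left
      have h1 := hall Y ⟨hY, hZ⟩
      exact (hlv.le_norm_of_o2 (hj.trans h1) (hY.isLoc.o2_le S)).trans (NO3S.Level.normalizer_le_zc _)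

/-- **(fact)** -/
theorem fact (hL : Ln P n L W Z C A 2)
    (hB : Bg S P (SWT.BT n) (SWT.ZT n) L W Z C 2)
    (hall : ∀ R, IsParS (S : Subgroup G) R → n.K ≤ o2 R) :
    ∃ z ∈ SWT.ZT n, Full C z ∧ z ≠ 1 ∧ z ∈ zc (S : Subgroup G) ∧
      (∀ x ∈ zc (S : Subgroup G), x ≠ 1 → x = z) ∧
      ∀ H : Subgroup G, (S : Subgroup G) ≤ H → (∃ U : Subgroup G, U ≠ ⊥ ∧ IsPGroup 2 U ∧ H ≤ normalizer (U : Set G)) →
        ∀ j, lev (S : Subgroup G) j ≤ n.K → H ≤ (H ⊓ normalizer (zc (lev (S : Subgroup G) j) : Set G)) ⊔ (H ⊓ centralizer ({z} : Set G)) := by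
  obtain ⟨z, hz, hf, hz1, hzS, hu⟩ := exists_z hL hB
  refine ⟨z, hz, hf, hz1, hzS, hu, fun H hH hU j hj => ?_⟩
  obtain ⟨U, hU1, hU2, hU3⟩ := hU
  exact fact' S (isLoc_of S hH hU1 hU2 hU3) hj hall hzS hz1 hu

end Cfsg.Agent.Omega.OM.LowT.TorusK.LocIn

end

end
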