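import Cfsg.Agent.Mrg.Omega.OM.Lev.Low.Core
import Cfsg.Agent.Mrg.Omega.OM.LowT.Full
import Cfsg.Agent.Mrg.Omega.OM.LowT.TwoInst
import Cfsg.Agent.Mrg.Omega.NO3S.Sym.LineFive

section


/-!
# TORUS, `k = 2 = q`, over a general top level

Port of `OM/Lev/Low/TwoMain.lean` to the frame `SWT.Ln P n`, `n : LV S`, with the hypothesis `LinH`.

* `Tor` : the block with its torus and the frame `Res`; `exists_tor` : one natural factor over `𝔽₄`;
* `OutN.four_le` : `4 ≤ |F|`; `exists_tor_j`, `exists_tor'` : the torus block of a parabolic over `B` of a finite stage;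
* `Tor.not_loc` : `⟨K, S⟩` is not local; `Tor.j_eq` : only the stage `j = 0` remains.
-/

set_option autoImplicit false
set_option linter.unusedSectionVars false

namespace Cfsg.Agent.Omega.OM.LowT.TwoMain

open Subgroup Cfsg Cfsg.Agent.ZN Cfsg.Agent.ZN.ChoiceBase
open Cfsg.Agent.ZN.ChoiceSit (Syl)
open Cfsg.Agent.MinSimple.MinParabolic (IsMinPar)
open Cfsg.Agent.Omega.MinPar (IsLoc IsPar IsParS)
open Cfsg.Agent.Omega.NO3S.EThree.Frame (Bg)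
open Cfsg.Agent.Omega.NO3S.Level (lev lev_mono lev_isLev lev_le)
open Cfsg.Agent.Omega.OM.SWT (Ln LV)
open Cfsg.Agent.Omega.OM.GLev
open Cfsg.Agent.Omega.OM.Lev.Low
open Cfsg.Agent.Omega.FFThm (NatKM)
open Cfsg.Agent.Omega.FrameFF (cv)
open scoped commutatorElement

universe u

variable {G : Type u} [Group G] [Finite G]

/-- **(L)** over `Ln` + `Bg`, for a line of `YB` -/
theorem line_yb {ι : Type} [Finite ι] {S : Sylow 2 G} {P : Subgroup G} {n : LV S} {L W Z C A : ι → Subgroup G}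
    (hL : Ln P n L W Z C A 2) (hB : Bg S P (SWT.BT n) (SWT.ZT n) L W Z C 2) {j : ℕ}
    (hj : lev (S : Subgroup G) j ≤ n.K) {Λ : Type*}
    {N c : Λ → Subgroup G} (hy : YB (SWT.BT n) (zc (lev (S : Subgroup G) j)) N c) {l : Λ}
    (hfix : ∀ b ∈ SWT.BT n, Mv N c b l l) (hcV : c l ≤ zl (S : Subgroup G) P)
    (hc4 : Nat.card (c l) = 4) (hZJ : ¬ SWT.ZT n ≤ N l) {τ : G}
    (hτc : ∀ x ∈ c l, τ * x * τ⁻¹ ∈ c l) (hτ1 : ∀ x ∈ c l, τ * x * τ⁻¹ = x → x = 1)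
    (hτN : ∀ x ∈ N l, τ * x * τ⁻¹ = x) :
    ∃ i, c l = W i ∧ (∀ m, m ≠ i → W m ≤ N l) ∧ ∀ m, m ≠ i → Z m ≤ N l := by
  refine LowT.Line.line' hL hB hcV hc4 (fun x hx => hy.fix l x ?_) (hy.triv l) (fun b hb x hx => ?_)
    (fun b hb x hx => ?_) hZJ hτc hτ1 hτN
  · exact (lev_isLev (S : Subgroup G) j).zc_le_zc hj n.lev.le hx
  · have h1 := (hfix b hb).2
    have h2 : b * x * b⁻¹ ∈ cj b (c l) := ⟨x, hx, rfl⟩
    rwa [h1] at h2
  · have h1 := (hfix b hb).1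
    have h2 : b * x * b⁻¹ ∈ cj b (N l) := ⟨x, hx, rfl⟩
    rwa [h1] at h2

/-- The block with its torus. -/
structure Tor {S : Sylow 2 G} (P : Subgroup G) (n : LV S) (L W Z C A : Fin 2 → Subgroup G) (R : Subgroup G) (j : ℕ)
    (K N₁ c : Subgroup G) (τ : G) : Prop where
  inp : LowT.Inp P n L W Z C A (SWT.BT n) R j (fun _ : Fin 1 => K)
    (fun _ => zl (SWT.BT n) R)
    (fun _ => zc (lev (S : Subgroup G) j) ⊓ centralizer (K : Set G)) (fun _ => c)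
  pb : PB (LevB.BL (S : Subgroup G) j) K (zl (SWT.BT n) R) N₁
    (cv (SWT.BT n) R) 4
  TV : SWT.BT n ≤ normalizer ((⁅zl (SWT.BT n) R, K⁆ : Subgroup G) : Set G)
  cN1 : c ≤ N₁
  N1c : N₁ ≤ c ⊔ cv (SWT.BT n) R
  cD : c ⊓ cv (SWT.BT n) R = ⊥
  c4 : Nat.card c = 4
  τK : τ ∈ K
  τB : τ ∈ normalizer (LevB.BL (S : Subgroup G) j : Set G)
  τc : cj τ c = c
  τ1 : ∀ x ∈ c, τ * x * τ⁻¹ = x → x = 1
  τD : ∀ v ∈ zl (SWT.BT n) R, τ * v * τ⁻¹ * v⁻¹ ∈ cv (SWT.BT n) R →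
    v ∈ cv (SWT.BT n) R
  cl : c ≤ ⁅⁅zl (SWT.BT n) R, K⁆, LevB.BL (S : Subgroup G) j⁆
  line : ∀ y ∈ R, ∀ v ∈ N₁, v ∉ cv (SWT.BT n) R → y * v * y⁻¹ ∈ N₁ → cj y N₁ = N₁
  hat : ∀ u ∈ SWT.BT n, (∀ x ∈ c, u * x = x * u) →
    ∀ x ∈ ⁅(⁅zl (SWT.BT n) R, K⁆ : Subgroup G), LevB.BL (S : Subgroup G) j⁆, u * x = x * u
  sub : YB.Sub (SWT.BT n)
    (fun _ : Fin 1 => zc (lev (S : Subgroup G) j) ⊓ centralizer (K : Set G)) (fun _ => c)

theorem exists_tor {S : Sylow 2 G} {P : Subgroup G} {n : LV S} {L W Z C A : Fin 2 → Subgroup G}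
    (hln : Ln P n L W Z C A 2) {R : Subgroup G} (hR : Syl (SWT.BT n) R)
    (hc : R ⊓ centralizer (o2 R : Set G) ≤ o2 R) {j : ℕ} (hj : lev (S : Subgroup G) j ≤ n.K)
    (hlow : ∀ i < j, lev (S : Subgroup G) i ≤ o2 R) {F : Type} [Field F] [Finite F] [CharP F 2]
    (hF : Nat.card F = 4) {X : Subgroup G} {AA' : Set (Subgroup G)} (hge : GE (SWT.BT n) R X AA')
    (hbz : BZ (SWT.BT n) X AA' (LevB.BL (S : Subgroup G) j) (zc (lev (S : Subgroup G) j)))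
    (hex : ∃ A ∈ AA', ¬ A ≤ o2 R)
    (N : NatKM F (SWT.BT n) R (zl (SWT.BT n) R)
      (cv (SWT.BT n) R) 1) :
    ∃ K N₁ c τ, Tor P n L W Z C A R j K N₁ c τ := by
  obtain ⟨K, N₁, c, τ, hBK, hKR, hpb, hRT, hTV, hyb, hcN, hNc, hcD, hcF, hτK, hτB, hτc, hτ1, hτD, hcl, hline⟩ :=
    Two.exists_tor hge hbz N hex (by omega)
  have hsub := sub_one hge hbz N hex hpb hyb hcN hNc hcD
  rw [hF] at hpb hcF
  refine ⟨K, N₁, c, τ, ?_, hpb, hTV, hcN, hNc, hcD, hcF, hτK, hτB, hτc, hτ1, hτD, hcl, hline,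
    fun u hu huc x hx => ?_, hsub⟩
  swap
  · refine cen_hat hge hbz N hex hu (fun v hv hvZ => ?_) x (commutator_mono hpb.VN le_rfl hx)
    have hvN : v ∈ N₁ := by
      refine (BlOf.line_iff hpb hv).2 ?_
      rw [hbz.zcB]
      exact hvZ
    obtain ⟨a, ha, d, hd, rfl⟩ := Cfsg.Agent.Omega.SQ1.Bau.mem_sup_comm
      (fun a ha b hb => hpb.comm (hpb.N1N (hcN ha)) (hpb.N1N (hpb.N01 hb))) (hNc hvN)
    have hdu : u * d * u⁻¹ ∈ cv (SWT.BT n) R :=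
      (NO3S.OneLine.natC_of hge.hm one_pos N.toNatK).Dn u (hR.1 hu) d hd
    have hdd := mul_mem hdu (inv_mem hd)
    have e1 : a * (u * d * u⁻¹ * d⁻¹) = u * d * u⁻¹ * d⁻¹ * a :=
      hpb.comm (hpb.N1N (hcN ha)) (hpb.N1N (hpb.N01 hdd))
    have e2 : u * (a * d) * u⁻¹ * (a * d)⁻¹ = u * d * u⁻¹ * d⁻¹ := by
      calc u * (a * d) * u⁻¹ * (a * d)⁻¹ = (u * a) * d * u⁻¹ * d⁻¹ * a⁻¹ := by group
        _ = (a * u) * d * u⁻¹ * d⁻¹ * a⁻¹ := by rw [huc a ha]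
        _ = a * (u * d * u⁻¹ * d⁻¹) * a⁻¹ := by group
        _ = _ := by rw [e1]; group
    rw [e2]
    exact hdd
  refine ⟨hln, hR, le_rfl, hj, hc, hlow, ?_⟩
  exact
    { yb := hyb
      pb := fun _ => ⟨_, _, _, hpb⟩
      KY := fun _ => hKR
      EY := fun _ => le_rfl
      memN := fun _ x hx => ⟨fun h1 => mem_centralizer_iff.1 h1.2, fun h1 => ⟨hx, mem_centralizer_iff.2 h1⟩⟩
      mv := fun t ht _ _ _ => cj_eq_of_mem_normalizer (hTV ht)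
      line := fun _ => hcl.trans (commutator_mono hpb.VN le_rfl)
      cross := fun l m hlm => absurd (Subsingleton.elim l m) hlm
      tr := fun l m => ⟨1, one_mem _, by
        rw [Subsingleton.elim l m]
        exact Mv.one m⟩
      sup := fun _ => hRT }

namespace Tor

variable {S : Sylow 2 G} {P : Subgroup G} {n : LV S} {L W Z C A : Fin 2 → Subgroup G} {R : Subgroup G} {j : ℕ}
  {K N₁ c : Subgroup G} {τ : G} (h : Tor P n L W Z C A R j K N₁ c τ)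
  (hbg : Bg S P (SWT.BT n) (SWT.ZT n) L W Z C 2)
include h

theorem oR : o2 R ≤ (S : Subgroup G) :=
  (ChoiceSit.o2_le_syl h.inp.syl).trans (SWT.lb n).BS

/-- `K ≤ N(lev S i)`, `i < j` -/
theorem K_norm : ∀ i, j = i + 1 → K ≤ normalizer (lev (S : Subgroup G) i : Set G) := fun i hi =>
  (h.inp.yk.KY 0).trans ((lev_isLev (S : Subgroup G) i).le_norm_of_o2 (h.inp.low i (by omega)) h.oR)

/-- (L) -/
theorem line_eq (hbg : Bg S P (SWT.BT n) (SWT.ZT n) L W Z C 2)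
    (hZ : ¬ R ≤ centralizer (zc (SWT.BT n) : Set G)) (hV : c ≤ zl (S : Subgroup G) P) :
    ∃ i, c = W i ∧ (∀ m, m ≠ i → W m ≤ centralizer (K : Set G)) ∧ ∀ m, m ≠ i → Z m ≤ centralizer (K : Set G) := by
  obtain ⟨i, h1, h2, h3⟩ := line_yb h.inp.ln hbg h.inp.jn h.inp.yk.yb (l := 0)
    (fun b hb => by
      obtain ⟨m, hm⟩ := h.inp.yk.yb.perm b hb 0
      rwa [Subsingleton.elim m 0] at hm) hV h.c4
    (fun hle => hZ ((h.inp.yk.sup 0).trans (sup_le (NO3S.Level.le_centralizer_zc _) (by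
      have e : zc (SWT.BT n) = SWT.ZT n := h.inp.ln.fr.zcB
      rw [e]
      exact le_centralizer_iff.1 (hle.trans inf_le_right))))) (τ := τ)
    (fun x hx => by
      have h4 : τ * x * τ⁻¹ ∈ cj τ c := ⟨x, hx, rfl⟩
      rwa [h.τc] at h4) h.τ1
    (fun x hx => by
      have h4 : τ * x = x * τ := mem_centralizer_iff.1 (mem_inf.1 hx).2 τ h.τK
      rw [h4, mul_inv_cancel_right])
  exact ⟨i, h1, fun m hm => (h2 m hm).trans inf_le_right, fun m hm => (h3 m hm).trans inf_le_right⟩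

/-- **`Res`, and (D)** -/
theorem exists_res (hbg : Bg S P (SWT.BT n) (SWT.ZT n) L W Z C 2)
    (hZ : ¬ R ≤ centralizer (zc (SWT.BT n) : Set G)) (hV : c ≤ zl (S : Subgroup G) P) :
    ∃ z z1 z2, TwoRes.Res S (SWT.BT n) (LevB.BL (S : Subgroup G) j) (zc (lev (S : Subgroup G) j))
        (zl (SWT.BT n) R) N₁ (cv (SWT.BT n) R) K c z z1 z2 ∧
      ∀ t ∈ (S : Subgroup G), t ∉ SWT.BT n →
        cj t ⁅(⁅zl (SWT.BT n) R, K⁆ : Subgroup G), LevB.BL (S : Subgroup G) j⁆ ≠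
          ⁅(⁅zl (SWT.BT n) R, K⁆ : Subgroup G), LevB.BL (S : Subgroup G) j⁆ := by
  obtain ⟨i, hcW, hWm, hZm⟩ := h.line_eq hbg hZ hV
  obtain ⟨i', hii⟩ : ∃ i', i ≠ i' := by
    have h5 : ∀ i : Fin 2, ∃ i', i ≠ i' := by decide
    exact h5 i
  obtain ⟨v, hv1, hv, -⟩ := TC.OfBg.exists_sit hbg
  have hcl : c ≤ ⁅zl (SWT.BT n) R, K⁆ := by
    refine h.cl.trans ?_
    rw [commutator_le]
    intro x hx b hb
    have h1 := mul_mem hx ((mem_normalizer_iff.1 (h.pb.LV (h.pb.BL hb)) _).1 (inv_mem hx))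
    have e : x * (b * x⁻¹ * b⁻¹) = ⁅x, b⁆ := by rw [commutatorElement_def]; group
    rwa [e] at h1
  refine ⟨_, _, _, LowT.TwoInst.res_of h.inp.ln hbg hv1 hv h.inp.jn h.pb h.TV h.inp.yk.yb h.cN1 h.N1c h.cD h.c4 hcl hii
    ?_ ?_, fun t ht htB => ?_⟩
  · rw [hcW]
    exact (hbg.fr.blk i).ZV ((hv i _).2 (Or.inr rfl))
  · exact hZm i' (Ne.symm hii) ((hv i' _).2 (Or.inr rfl))
  · intro he
    have hne := h.inp.ln.fr.Ane i'
    push Not at hne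
    obtain ⟨a, ha, w, hw, hne⟩ := hne
    apply hne
    have haB := h.inp.ln.fr.AB i' ha
    refine h.hat a haB (fun x hx => h.inp.ln.fr.AC i' a ha x (h.inp.ln.fr.WjC i' i (Ne.symm hii) (hcW ▸ hx))) w ?_
    rw [← he]
    refine cj_mono t h.cl ?_
    rw [hcW, Two.swap hbg ht htB hii]
    exact hw

theorem zT (hZ : ¬ R ≤ centralizer (zc (SWT.BT n) : Set G)) :
    ¬ zc (SWT.BT n) ≤ zc (lev (S : Subgroup G) j) ⊓ centralizer (K : Set G) := fun hle =>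
  hZ ((h.inp.yk.sup 0).trans (sup_le (NO3S.Level.le_centralizer_zc _)
    (le_centralizer_iff.1 (hle.trans inf_le_right))))

/-- `c ≤ V_P` -/
theorem le_V (hlin : LinH S P (SWT.BT n) R j) : c ≤ zl (S : Subgroup G) P :=
  hlin.le K N₁ c τ h.pb (h.inp.yk.KY 0) h.cN1 h.τK h.τB h.τc h.τ1

/-- `⟨K, S⟩` is local at the stages `j > 0` -/
theorem loc_succ {z : G} (hz : z ∈ zc (S : Subgroup G)) (hz1 : z ≠ 1) (hj : 0 < j) :
    IsLoc (S : Subgroup G) (K ⊔ (S : Subgroup G)) := by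
  obtain ⟨i, rfl⟩ : ∃ i, j = i + 1 := ⟨j - 1, by omega⟩
  have hl := lev_isLev (S : Subgroup G) i
  have h2 : IsPGroup 2 (lev (S : Subgroup G) i) := S.isPGroup'.to_le (lev_le _ i)
  refine MinPar.isLoc_of_le_normalizer S le_sup_right h2 (fun e => hz1 ?_) (sup_le (h.K_norm i rfl) hl.S_norm)
  have h3 := (ChoiceBase.mem_zc.1 (hl.zc_le hz)).1
  rw [e] at h3
  exact mem_bot.1 h3

/-- **`⟨K, S⟩` is not local.** -/
theorem not_loc (hbg : Bg S P (SWT.BT n) (SWT.ZT n) L W Z C 2)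
    (hall : ∀ R, IsParS (S : Subgroup G) R → n.K ≤ o2 R)
    (hZ : ¬ R ≤ centralizer (zc (SWT.BT n) : Set G)) (hV : c ≤ zl (S : Subgroup G) P) :
    ¬ IsLoc (S : Subgroup G) (K ⊔ (S : Subgroup G)) := by
  intro hL
  obtain ⟨z, z1, z2, hR, hD⟩ := h.exists_res hbg hZ hV
  have hz1 : z ≠ 1 := fun e => hR.zK (by rw [e]; exact one_mem _)
  exact TwoEnd.false_of hR (H := R) h.inp.syl.1 (h.inp.yk.KY 0) (h.inp.yk.sup 0)
    (MinSimple.VModule.le_normalizer_zl _ R) h.line h.τK h.τc h.τD h.K_norm h.inp.ln.hyp.ctx.char2 hL hD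
    (LowT.TwoInst.gen_le hL h.inp.jn hall hR.zz hz1 hR.zS)

/-- **Only the stage `j = 0` remains, and `⟨K, S⟩` is not local.** -/
theorem j_eq (hbg : Bg S P (SWT.BT n) (SWT.ZT n) L W Z C 2)
    (hall : ∀ R, IsParS (S : Subgroup G) R → n.K ≤ o2 R)
    (hZ : ¬ R ≤ centralizer (zc (SWT.BT n) : Set G)) (hV : c ≤ zl (S : Subgroup G) P) : j = 0 := by
  by_contra hj
  obtain ⟨z, z1, z2, hR, -⟩ := h.exists_res hbg hZ hV
  have hz1 : z ≠ 1 := fun e => hR.zK (by rw [e]; exact one_mem _)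
  exact h.not_loc hbg hall hZ hV (h.loc_succ hR.zz hz1 (by omega))

end Tor

/-- `4 ≤ |F|` -/
theorem four_le {ι : Type} [Finite ι] {S : Sylow 2 G} {P : Subgroup G} {n : LV S}
    {L W Z C A : ι → Subgroup G} {T Y : Subgroup G} {j : ℕ} {F : Type} [Field F] [Finite F] [CharP F 2] {k : ℕ}
    {M : NO3S.OneLine.NatC F T Y (zl T Y) (cv T Y) k} {K Nn c : Fin k → Subgroup G} (hk : 0 < k)
    (h : LowT.OutN P n L W Z C A T Y j M K Nn c) : 4 ≤ Nat.card F := by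
  obtain ⟨v, -, a, ha, -, ha1, v', -, a', ha', -, ha1', hne⟩ := h.wide ⟨0, hk⟩
  have h1 : 2 < Nat.card (c ⟨0, hk⟩) := Line.two_lt_card (one_mem _) ha ha' (Ne.symm ha1) (Ne.symm ha1') hne
  rw [h.nb.co.card] at h1
  have : Fact (Nat.Prime 2) := ⟨Nat.prime_two⟩
  obtain ⟨m, hm⟩ := (IsPGroup.iff_card (p := 2) (G := Multiplicative F)).1 (fun x => ⟨1, by
    have h2 : (2 : F) = 0 := CharP.cast_eq_zero F 2
    show Multiplicative.ofAdd ((2 ^ 1) • Multiplicative.toAdd x) = 1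
    rw [pow_one, two_smul, CharTwo.add_self_eq_zero]
    rfl⟩)
  have hm' : Nat.card F = 2 ^ m := hm
  rw [hm'] at h1 ⊢
  have h3 : 1 < m := by
    by_contra hcon
    have h4 : m ≤ 1 := by omega
    have h5 := Nat.pow_le_pow_right (show 0 < 2 by norm_num) h4
    omega
  have h5 := Nat.pow_le_pow_right (show 0 < 2 by norm_num) (show 2 ≤ m by omega)
  omega

/-- **The torus block of a parabolic over `B` of the stage `j`.** -/
theorem exists_tor_j {S : Sylow 2 G} {P : Subgroup G} {n : LV S} {L W Z C A : Fin 2 → Subgroup G}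
    (hln : Ln P n L W Z C A 2) {R : Subgroup G} (hR : Syl (SWT.BT n) R) (hP : IsMinPar (SWT.BT n) R)
    (hc : R ⊓ centralizer (o2 R : Set G) ≤ o2 R) (hZ : ¬ R ≤ centralizer (zc (SWT.BT n) : Set G)) {j : ℕ}
    (hj : lev (S : Subgroup G) j ≤ n.K) (hlow : ∀ i < j, lev (S : Subgroup G) i ≤ o2 R)
    (hnj : ¬ lev (S : Subgroup G) j ≤ o2 R) (hlin : LinH S P (SWT.BT n) R j) :
    ∃ K N₁ c τ, Tor P n L W Z C A R j K N₁ c τ := by
  obtain ⟨X, AA', hge, hbz, hex, F, _, _, _, k, hk, N, K, Nn, c, ho⟩ :=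
    LowT.exists_out hln hR le_rfl hP hc hZ hj hlow hnj
  obtain ⟨rfl, hF⟩ := hlin.one F k hk N (four_le hk ho)
  exact exists_tor hln hR hc hj hlow hF hge hbz hex N

/-- **The torus block of a parabolic over `B` of a finite stage.** -/
theorem exists_tor' {S : Sylow 2 G} {P : Subgroup G} {n : LV S} {L W Z C A : Fin 2 → Subgroup G}
    (hln : Ln P n L W Z C A 2) {R : Subgroup G} (hR : Syl (SWT.BT n) R)
    (hP : IsMinPar (SWT.BT n) R) (hc : R ⊓ centralizer (o2 R : Set G) ≤ o2 R)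
    (hn : ∃ s, lev (S : Subgroup G) s ≤ n.K ∧ ¬ lev (S : Subgroup G) s ≤ o2 R)
    (hZ : ¬ R ≤ centralizer (zc (SWT.BT n) : Set G))
    (hlin : ∀ j, lev (S : Subgroup G) j ≤ n.K → (∀ i < j, lev (S : Subgroup G) i ≤ o2 R) →
      ¬ lev (S : Subgroup G) j ≤ o2 R → LinH S P (SWT.BT n) R j) :
    ∃ j K N₁ c τ, Tor P n L W Z C A R j K N₁ c τ ∧ c ≤ zl (S : Subgroup G) P := by
  classical
  obtain ⟨s, hs, hns⟩ := hn
  have hexs : ∃ j, ¬ lev (S : Subgroup G) j ≤ o2 R := ⟨s, hns⟩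
  have hj : lev (S : Subgroup G) (Nat.find hexs) ≤ n.K := (lev_mono _ (Nat.find_min' hexs hns)).trans hs
  have hlow : ∀ i < Nat.find hexs, lev (S : Subgroup G) i ≤ o2 R := fun i hi => by
    by_contra hcon
    exact Nat.find_min hexs hi hcon
  have hl := hlin _ hj hlow (Nat.find_spec hexs)
  obtain ⟨K, N₁, c, τ, ht⟩ := exists_tor_j hln hR hP hc hZ hj hlow (Nat.find_spec hexs) hl
  exact ⟨_, K, N₁, c, τ, ht, ht.le_V hl⟩

end Cfsg.Agent.Omega.OM.LowT.TwoMain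

end

section


/-!
# `V_P` = even subsets of five letters, over a general top level: no minimal parabolic of finite stage over `T` moves
`Ω₁(Z(T))`

Port of `NO3S/Sym/LowFive.lean` (helper604) to the frame `SWT.Ln P n`, `n : LV S`, `ι = Fin 2`; `B = T = Std.T S p`.

* `line_five`, `res_five`, `exists_res`, `not_loc`, `tor_false` : over the torus block `Tor` with its line `c ≤ V_P`.
-/

set_option autoImplicit false
set_option linter.unusedSectionVars false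

namespace Cfsg.Agent.Omega.OM.LowT.Five

open Subgroup Cfsg Cfsg.Agent.ZN Cfsg.Agent.ZN.ChoiceBase
open Cfsg.Agent.ZN.ChoiceSit (Syl)
open Cfsg.Agent.MinSimple.MinParabolic (IsMinPar)
open Cfsg.Agent.Omega.MinPar (IsLoc IsPar IsParS)
open Cfsg.Agent.Omega.NO3S.Level (lev lev_mono lev_isLev lev_le)
open Cfsg.Agent.Omega.OM
open Cfsg.Agent.Omega.OM.SWT (Ln LV)
open Cfsg.Agent.Omega.OM.GLev
open Cfsg.Agent.Omega.OM.Lev.Uni (FrL)
open Cfsg.Agent.Omega.OM.Lev.Low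
open Cfsg.Agent.Omega.FrameFF (cv)
open Cfsg.Agent.Omega.SQ1.Bau (card_sup_comm)
open Cfsg.Agent.Omega.NTwo (Std nn aa)
open Cfsg.Agent.Omega.NO3S.Sym
open Cfsg.Agent.Omega.NO3S.Sym.Light (FiveL)
open Cfsg.Agent.Omega.NO3S.Sym.LowFive (Id5 idx cj_W exists_pair heavy_light mem_Z_of)
open scoped commutatorElement

universe u

variable {G : Type u} [Group G] [Finite G] {S : Sylow 2 G} {P : Subgroup G} {n : LV S}
  {L W Z C A : Fin 2 → Subgroup G} {R : Subgroup G} {j : ℕ} {K N₁ c : Subgroup G} {τ : G} {p : Fin 5 → G}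

/-- **The line of the torus block is `W l`.** -/
theorem line_five (h : FiveL S P p) (hid : Id5 (S : Subgroup G) (SWT.BT n) W Z p)
    (ht : TwoMain.Tor P n L W Z C A R j K N₁ c τ)
    (hZ : ¬ R ≤ centralizer (zc (SWT.BT n) : Set G)) (hV : c ≤ zl (S : Subgroup G) P) :
    ∃ i, c = W i ∧ ∀ m, m ≠ i → Z m ≤ centralizer (K : Set G) := by
  have hyb := ht.inp.yk.yb
  have hfix : ∀ b ∈ SWT.BT n, Mv (fun _ : Fin 1 => zc (lev (S : Subgroup G) j) ⊓ centralizer (K : Set G))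
      (fun _ => c) b 0 0 := fun b hb => by
    obtain ⟨m, hm⟩ := hyb.perm b hb 0
    rwa [Subsingleton.elim m 0] at hm
  obtain ⟨i, h1, h2⟩ := LineFive.line5 ht.inp.ln.fr (c := c) (N := zc (lev (S : Subgroup G) j) ⊓ centralizer (K : Set G))
    (τ := τ)
    (fun l z hz hz1 w hw hwZ b hb hbC hb1 g => by
      obtain ⟨m, hlm⟩ : ∃ m, l ≠ m := by
        have key : ∀ l : Fin 2, ∃ m, l ≠ m := by decide
        exact key l
      exact heavy_light h hid hlm hz hz1 hw hwZ (mem_Z_of ht.inp.ln.fr hlm hb hbC) hb1 g)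
    hV ht.c4
    (fun x hx => hyb.fix 0 x ((lev_isLev (S : Subgroup G) j).zc_le_zc ht.inp.jn n.lev.le hx))
    (hyb.triv 0)
    (fun b hb x hx => by
      have h3 := (hfix b hb).2
      have h4 : b * x * b⁻¹ ∈ cj b c := ⟨x, hx, rfl⟩
      rwa [h3] at h4)
    (fun b hb x hx => by
      have h3 := (hfix b hb).1
      have h4 : b * x * b⁻¹ ∈ cj b (zc (lev (S : Subgroup G) j) ⊓ centralizer (K : Set G)) := ⟨x, hx, rfl⟩
      rwa [h3] at h4)
    (fun hle => hZ ((ht.inp.yk.sup 0).trans (sup_le (NO3S.Level.le_centralizer_zc _) (by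
      rw [ht.inp.ln.fr.zcB]
      exact le_centralizer_iff.1 (hle.trans inf_le_right)))))
    (fun x hx => by
      have h4 : τ * x * τ⁻¹ ∈ cj τ c := ⟨x, hx, rfl⟩
      rwa [ht.τc] at h4) ht.τ1
  exact ⟨i, h1, fun m hm => (h2 m hm).trans inf_le_right⟩

/-- `|V_P| ≥ 16` -/
theorem card_V (hln : Ln P n L W Z C A 2) : 16 ≤ Nat.card (zl (S : Subgroup G) P) := by
  have hW : ∀ i, Nat.card (W i) = 4 := fun i => by
    rw [(hln.fr.blk i).card, hln.fr.cardZ i]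
  have h01 : W 0 ⊓ W 1 = ⊥ := by
    rw [eq_bot_iff, ← hln.fr.dir 0]
    exact inf_le_inf_left _ (hln.fr.WjC 0 1 (by decide))
  have h1 := card_sup_comm (A := W 0) (B := W 1) fun a ha b hb => hln.fr.Vc (hln.fr.WV 0 ha) (hln.fr.WV 1 hb)
  rw [h01, Subgroup.card_bot, mul_one, hW, hW] at h1
  calc 16 = Nat.card ↥(W 0 ⊔ W 1) := h1.symm
    _ ≤ _ := Subgroup.card_le_of_le (sup_le (hln.fr.WV 0) (hln.fr.WV 1))

/-- **The instance of `Res`.** -/
theorem res_five (h : FiveL S P p) (hid : Id5 (S : Subgroup G) (SWT.BT n) W Z p)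
    (hln : Ln P n L W Z C A 2) {M N₁ D K c : Subgroup G}
    {j : ℕ} (hj : lev (S : Subgroup G) j ≤ n.K) (hpb : PB (LevB.BL (S : Subgroup G) j) K M N₁ D 4)
    (hBN : SWT.BT n ≤ normalizer ((⁅M, K⁆ : Subgroup G) : Set G))
    (hyb : YB (SWT.BT n) (zc (lev (S : Subgroup G) j))
      (fun _ : Fin 1 => zc (lev (S : Subgroup G) j) ⊓ centralizer (K : Set G)) (fun _ => c))
    (hc1 : c ≤ N₁) (hc2 : N₁ ≤ c ⊔ D) (hcD : c ⊓ D = ⊥) (hc4 : Nat.card c = 4) (hcV : c ≤ ⁅M, K⁆)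
    {z1 z2 : G} (hz1 : z1 ≠ 1) (hz2 : z2 ≠ 1) (e : p 4 = z1 * z2) (h1 : z1 ∈ c) (h2V : z2 ∈ zl (S : Subgroup G) P)
    (h2 : z2 ∈ centralizer (K : Set G)) :
    TwoRes.Res S (SWT.BT n) (LevB.BL (S : Subgroup G) j) (zc (lev (S : Subgroup G) j)) M N₁ D K c
      (p 4) z1 z2 where
  BS := (SWT.lb n).BS
  SB := by rw [hid.BT]; exact h.std.le_norm_T
  idx := fun a ha haB b hb hbB => idx h hid ha haB hb hbB
  ne := NO3S.Sym.LowFive.exists_out h hid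
  SX := ((lev_isLev (S : Subgroup G) j).S_norm).trans (NO3S.Level.normalizer_le_zc _)
  X2 := NO3S.OneLine.zc_elem _
  B0eq := rfl
  B0B := BL_le_BT hj
  XB0 := by
    have h3 := LevB.zc_B S j
    rw [← h3]
    exact fun x hx => (ChoiceBase.mem_zc.1 hx).1
  pb := hpb
  BN := hBN
  yb := hyb
  cN1 := hc1
  N1c := hc2
  cD := hcD
  c4 := hc4
  cV := hcV
  zz := ChoiceBase.mem_zc.2 ⟨h.std.mem 4, by rw [pow_two]; exact h.std.sq 4,
    fun s hs => mul_inv_eq_iff_eq_mul.1 (h.std.fix s hs)⟩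
  zS := fun x hx hx1 => (h.std.zc4 x hx).resolve_left hx1
  ez := e
  z1c := h1
  z1n := hz1
  z2c := mem_inf.2 ⟨(hln.fr.VX.trans ((lev_isLev (S : Subgroup G) j).zc_le_zc hj n.lev.le)) h2V, h2⟩
  z2n := hz2
  X16 := (card_V hln).trans (Subgroup.card_le_of_le
    (hln.fr.VX.trans ((lev_isLev (S : Subgroup G) j).zc_le_zc hj n.lev.le)))

/-- **`Res`, and (D)** -/
theorem exists_res (h : FiveL S P p) (hid : Id5 (S : Subgroup G) (SWT.BT n) W Z p)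
    (ht : TwoMain.Tor P n L W Z C A R j K N₁ c τ)
    (hZ : ¬ R ≤ centralizer (zc (SWT.BT n) : Set G)) (hV : c ≤ zl (S : Subgroup G) P) :
    ∃ z1 z2, TwoRes.Res S (SWT.BT n) (LevB.BL (S : Subgroup G) j) (zc (lev (S : Subgroup G) j))
        (zl (SWT.BT n) R) N₁ (cv (SWT.BT n) R) K c (p 4) z1 z2 ∧
      ∀ t ∈ (S : Subgroup G), t ∉ SWT.BT n →
        cj t ⁅(⁅zl (SWT.BT n) R, K⁆ : Subgroup G), LevB.BL (S : Subgroup G) j⁆ ≠
          ⁅(⁅zl (SWT.BT n) R, K⁆ : Subgroup G), LevB.BL (S : Subgroup G) j⁆ := by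
  obtain ⟨i, hcW, hZm⟩ := line_five h hid ht hZ hV
  obtain ⟨i', hii⟩ : ∃ i', i ≠ i' := by
    have h5 : ∀ i : Fin 2, ∃ i', i ≠ i' := by decide
    exact h5 i
  obtain ⟨z1, hz1, z2, hz2, hz11, hz21, e⟩ := exists_pair h hid hii
  have hcl : c ≤ ⁅zl (SWT.BT n) R, K⁆ := by
    refine ht.cl.trans ?_
    rw [commutator_le]
    intro x hx b hb
    have h1 := mul_mem hx ((mem_normalizer_iff.1 (ht.pb.LV (ht.pb.BL hb)) _).1 (inv_mem hx))
    have e : x * (b * x⁻¹ * b⁻¹) = ⁅x, b⁆ := by rw [commutatorElement_def]; group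
    rwa [e] at h1
  refine ⟨z1, z2, res_five h hid ht.inp.ln ht.inp.jn ht.pb ht.TV ht.inp.yk.yb ht.cN1 ht.N1c ht.cD ht.c4 hcl
    hz11 hz21 e ?_ (ht.inp.ln.fr.ZV i' hz2) (hZm i' (Ne.symm hii) hz2), fun t hs htB => ?_⟩
  · rw [hcW]
    exact (ht.inp.ln.fr.blk i).ZV hz1
  · intro he
    have hne := ht.inp.ln.fr.Ane i'
    push Not at hne
    obtain ⟨a, ha, w, hw, hne⟩ := hne
    apply hne
    have haB := ht.inp.ln.fr.AB i' ha
    refine ht.hat a haB (fun x hx => ht.inp.ln.fr.AC i' a ha x (ht.inp.ln.fr.WjC i' i (Ne.symm hii) (hcW ▸ hx))) w ?_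
    rw [← he]
    refine cj_mono t ht.cl ?_
    rw [hcW, cj_W h hid hs htB hii]
    exact hw

/-- **`⟨K, S⟩` is not local.** -/
theorem not_loc (h : FiveL S P p) (hid : Id5 (S : Subgroup G) (SWT.BT n) W Z p)
    (ht : TwoMain.Tor P n L W Z C A R j K N₁ c τ)
    (hall : ∀ R, IsParS (S : Subgroup G) R → n.K ≤ o2 R)
    (hZ : ¬ R ≤ centralizer (zc (SWT.BT n) : Set G)) (hV : c ≤ zl (S : Subgroup G) P) :
    ¬ IsLoc (S : Subgroup G) (K ⊔ (S : Subgroup G)) := by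
  intro hL
  obtain ⟨z1, z2, hR, hD⟩ := exists_res h hid ht hZ hV
  have hz1 : p 4 ≠ 1 := h.std.ne 4
  exact TwoEnd.false_of hR (H := R) ht.inp.syl.1 (ht.inp.yk.KY 0) (ht.inp.yk.sup 0)
    (MinSimple.VModule.le_normalizer_zl _ R) ht.line ht.τK ht.τc ht.τD ht.K_norm ht.inp.ln.hyp.ctx.char2 hL hD
    (LowT.TwoInst.gen_le hL ht.inp.jn hall hR.zz hz1 hR.zS)

/-- **The torus block does not exist.** -/
theorem tor_false (h : FiveL S P p) (hid : Id5 (S : Subgroup G) (SWT.BT n) W Z p)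
    (ht : TwoMain.Tor P n L W Z C A R j K N₁ c τ)
    (hall : ∀ R, IsParS (S : Subgroup G) R → n.K ≤ o2 R)
    (hZ : ¬ R ≤ centralizer (zc (SWT.BT n) : Set G)) (hV : c ≤ zl (S : Subgroup G) P) : False := by
  obtain ⟨z1, z2, hR, hD⟩ := exists_res h hid ht hZ hV
  exact not_loc h hid ht hall hZ hV (hR.isLoc hD)

end Cfsg.Agent.Omega.OM.LowT.Five

end
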